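import Mathlib
import Cfsg.Agent.Lib.GLClass.ClassTuples
import Cfsg.Agent.Lib.IsometryConj.Unitary

/-!
# The twisted reciprocal of a polynomial and the rank invariants of contragredient matrices

`dual C g` is the monic polynomial whose roots are the `(x̄)⁻¹` for the roots `x` of `g`; the elementary
divisors of a unitary matrix are closed under it, with multiplicities and exponents.
-/

set_option autoImplicit false

namespace CfsgLib.Char.SUClass

open Polynomial Matrix CfsgLib.SU CfsgLib.IsometryConj CfsgLib.GLClass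

variable {F : Type*} [Field F] [Fintype F] {q n : ℕ}

/-- The twisted reciprocal. -/
noncomputable def dual (C : UCtx F q) (g : F[X]) : F[X] :=
  Polynomial.C (C.bar (g.eval 0))⁻¹ * (g.map (C.bar : F →+* F)).reverse

variable (C : UCtx F q) {g h : F[X]}

theorem natTrailingDegree_zero_of (h0 : g.eval 0 ≠ 0) : g.natTrailingDegree = 0 :=
  natTrailingDegree_eq_zero.2 (Or.inr (by rwa [coeff_zero_eq_eval_zero]))

theorem bar_ne_zero {a : F} (ha : a ≠ 0) : C.bar a ≠ 0 := (map_ne_zero C.bar).2 ha

theorem natDegree_dual (h0 : g.eval 0 ≠ 0) : (dual C g).natDegree = g.natDegree := by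
  rw [dual, natDegree_C_mul (inv_ne_zero (bar_ne_zero C h0)), reverse_natDegree,
    natDegree_map_eq_of_injective (C.bar : F →+* F).injective]
  rw [natTrailingDegree_zero_of (by
    rw [← coeff_zero_eq_eval_zero, coeff_map, coeff_zero_eq_eval_zero]; exact bar_ne_zero C h0), Nat.sub_zero]

theorem coeff_dual (j : ℕ) (hj : j ≤ g.natDegree) :
    (dual C g).coeff j = (C.bar (g.eval 0))⁻¹ * C.bar (g.coeff (g.natDegree - j)) := by
  rw [dual, coeff_C_mul, coeff_reverse, natDegree_map_eq_of_injective (C.bar : F →+* F).injective,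
    revAt_le hj, coeff_map]
  rfl

theorem monic_dual (h0 : g.eval 0 ≠ 0) : (dual C g).Monic := by
  rw [Monic, leadingCoeff, natDegree_dual C h0, coeff_dual C _ le_rfl, Nat.sub_self, coeff_zero_eq_eval_zero,
    inv_mul_cancel₀ (bar_ne_zero C h0)]

theorem eval_dual (hm : g.Monic) : (dual C g).eval 0 = (C.bar (g.eval 0))⁻¹ := by
  rw [← coeff_zero_eq_eval_zero, coeff_dual C 0 (Nat.zero_le _), Nat.sub_zero, hm.coeff_natDegree, map_one, mul_one]

theorem eval_dual_ne_zero (hm : g.Monic) (h0 : g.eval 0 ≠ 0) : (dual C g).eval 0 ≠ 0 := by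
  rw [eval_dual C hm]; exact inv_ne_zero (bar_ne_zero C h0)

theorem dual_dual (hm : g.Monic) (h0 : g.eval 0 ≠ 0) : dual C (dual C g) = g := by
  refine Polynomial.ext fun j => ?_
  have hd := natDegree_dual C h0
  have hd2 := natDegree_dual C (eval_dual_ne_zero C hm h0)
  rcases le_or_gt j g.natDegree with hj | hj
  · rw [coeff_dual C j (hd.symm ▸ hj), eval_dual C hm, hd, coeff_dual C _ (Nat.sub_le _ _),
      Nat.sub_sub_self hj, map_inv₀, C.bar_bar, map_mul, map_inv₀, C.bar_bar, C.bar_bar, inv_inv, ← mul_assoc,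
      mul_inv_cancel₀ h0, one_mul]
  · rw [coeff_eq_zero_of_natDegree_lt (by omega), coeff_eq_zero_of_natDegree_lt hj]

theorem dual_mul : dual C (g * h) = dual C g * dual C h := by
  rw [dual, dual, dual, eval_mul, map_mul, mul_inv, map_mul, Polynomial.map_mul, reverse_mul_of_domain]
  ring

theorem dual_one : dual C (1 : F[X]) = 1 := by
  simp [dual, reverse]

theorem dual_pow (k : ℕ) : dual C (g ^ k) = dual C g ^ k := by
  induction k with
  | zero => simp [dual_one]
  | succ k ih => rw [pow_succ, pow_succ, dual_mul, ih]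

theorem dual_prod {ι : Type*} (s : Finset ι) (f : ι → F[X]) : dual C (∏ i ∈ s, f i) = ∏ i ∈ s, dual C (f i) := by
  classical
  induction s using Finset.induction_on with
  | empty => simp [dual_one]
  | insert a s ha ih => rw [Finset.prod_insert ha, Finset.prod_insert ha, dual_mul, ih]

theorem dual_multiset_prod (t : Multiset F[X]) : dual C t.prod = (t.map (dual C)).prod := by
  induction t using Multiset.induction_on with
  | empty => simp [dual_one]
  | cons a s ih => rw [Multiset.prod_cons, dual_mul, Multiset.map_cons, Multiset.prod_cons, ih]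

theorem irreducible_dual (hm : g.Monic) (h0 : g.eval 0 ≠ 0) (hi : Irreducible g) : Irreducible (dual C g) := by
  have hdm := monic_dual C h0
  have hd0 := eval_dual_ne_zero C hm h0
  refine hdm.irreducible_iff_natDegree.2 ⟨fun h1 => ?_, fun a b ha hb hab => ?_⟩
  · have := natDegree_dual C h0
    rw [h1, natDegree_one] at this
    exact hi.natDegree_pos.ne this
  · have hab0 : a.eval 0 ≠ 0 ∧ b.eval 0 ≠ 0 := by
      rw [← hab, eval_mul, mul_ne_zero_iff] at hd0
      exact hd0
    have e : dual C a * dual C b = g := by rw [← dual_mul, hab, dual_dual C hm h0]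
    rw [← natDegree_dual C hab0.1, ← natDegree_dual C hab0.2]
    exact (hm.irreducible_iff_natDegree.1 hi).2 _ _ (monic_dual C hab0.1) (monic_dual C hab0.2) e

/-! ### the semilinear adjoint -/

theorem bar_map_eq (M : Matrix (Fin n) (Fin n) F) :
    (hermAdjoint C n).st M = (M.map (C.bar : F →+* F))ᵀ := rfl

theorem st_aeval (M : Matrix (Fin n) (Fin n) F) (R : F[X]) :
    (hermAdjoint C n).st (aeval M R) = aeval ((hermAdjoint C n).st M) (R.map (C.bar : F →+* F)) := by
  induction R using Polynomial.induction_on with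
  | C a =>
    rw [Polynomial.map_C, aeval_C, aeval_C, bar_map_eq]
    ext i j
    simp [Matrix.algebraMap_matrix_apply, eq_comm, apply_ite (C.bar : F → F)]
  | add p r hp hr => rw [Polynomial.map_add, map_add, map_add, (hermAdjoint C n).st_add, hp, hr]
  | monomial k a ih =>
    have e : aeval M (Polynomial.C a * X ^ (k + 1)) = aeval M (Polynomial.C a * X ^ k) * M := by
      rw [pow_succ, ← mul_assoc, map_mul (aeval M) (Polynomial.C a * X ^ k) X, aeval_X]
    have e2 : (Polynomial.C a * X ^ (k + 1)).map (C.bar : F →+* F) =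
        X * (Polynomial.C a * X ^ k).map (C.bar : F →+* F) := by
      rw [pow_succ, ← mul_assoc, Polynomial.map_mul, Polynomial.map_X, mul_comm]
    rw [e, e2, (hermAdjoint C n).st_mul, ih, map_mul (aeval _) X, aeval_X]

theorem rank_barMap (M : Matrix (Fin n) (Fin n) F) : (M.map (C.bar : F →+* F)).rank = M.rank := by
  have hle : ∀ M : Matrix (Fin n) (Fin n) F, M.rank ≤ (M.map (C.bar : F →+* F)).rank := by
    intro M
    rw [Matrix.rank_eq_finrank_span_cols, Matrix.rank_eq_finrank_span_cols]
    obtain ⟨κ, a, -, ha, hli⟩ := exists_linearIndependent' F M.col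
    haveI : Finite κ := hli.finite
    letI := Fintype.ofFinite κ
    rw [← ha, finrank_span_eq_card hli]
    refine le_trans (le_of_eq (finrank_span_eq_card (b := fun k => (M.map (C.bar : F →+* F)).col (a k)) ?_).symm)
      (Submodule.finrank_mono (Submodule.span_mono (by rintro _ ⟨k, rfl⟩; exact ⟨a k, rfl⟩)))
    rw [Fintype.linearIndependent_iff] at hli ⊢
    intro c hc k
    have h := hli (fun k => C.bar (c k)) (funext fun i => by
      have h2 := congrArg (C.bar : F → F) (congrFun hc i)
      simpa [Finset.sum_apply, C.bar_bar] using h2) k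
    exact (map_eq_zero C.bar).1 h
  refine le_antisymm (le_trans (hle _) (le_of_eq ?_)) (hle M)
  congr 1
  ext i j
  simp [C.bar_bar]

theorem rank_st (M : Matrix (Fin n) (Fin n) F) : ((hermAdjoint C n).st M).rank = M.rank := by
  rw [bar_map_eq, Matrix.rank_transpose, rank_barMap]

theorem rank_smul {a : F} (ha : a ≠ 0) (M : Matrix (Fin n) (Fin n) F) : (a • M).rank = M.rank := by
  rw [← Matrix.one_mul M, ← Matrix.smul_mul, Matrix.rank_mul_eq_right_of_isUnit_det, Matrix.one_mul]
  rw [Matrix.det_smul, Matrix.det_one, mul_one]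
  exact (ha.isUnit.pow _)

/-- The contragredient has the rank invariants at the twisted reciprocals. -/
theorem rank_aeval_contragredient (A : GL (Fin n) F) {Q : F[X]} (h0 : Q.eval 0 ≠ 0) (j : ℕ) :
    (aeval (((hermAdjoint C n).stUnit A)⁻¹ : GL (Fin n) F).1 Q ^ j).rank =
      (aeval (A : Matrix (Fin n) (Fin n) F) (dual C Q) ^ j).rank := by
  set J := hermAdjoint C n
  rw [← map_pow, ← map_pow, ← dual_pow]
  have h0j : (Q ^ j).eval 0 ≠ 0 := by rw [eval_pow]; exact pow_ne_zero _ h0
  generalize Q ^ j = R at h0j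
  have h1 : ∀ (U : GL (Fin n) F) (R : F[X]), aeval (U.1) R.reverse =
      U.1 ^ R.natDegree * aeval (U⁻¹ : GL (Fin n) F).1 R := by
    intro U R
    have key : ∀ i, i ≤ R.natDegree → U.1 ^ (R.natDegree - i) = U.1 ^ R.natDegree * (U⁻¹ : GL (Fin n) F).1 ^ i := by
      intro i hi
      rw [← Units.val_pow_eq_pow_val, ← Units.val_pow_eq_pow_val, ← Units.val_pow_eq_pow_val, ← Units.val_mul,
        inv_pow, ← pow_sub U hi]
    rw [aeval_eq_sum_range' (show R.reverse.natDegree < R.natDegree + 1 by
        rw [reverse_natDegree]; omega),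
      aeval_eq_sum_range' (Nat.lt_succ_self R.natDegree), Finset.mul_sum,
      ← Finset.sum_range_reflect _ (R.natDegree + 1)]
    refine Finset.sum_congr rfl fun i hi => ?_
    have hi' : i ≤ R.natDegree := Nat.le_of_lt_succ (Finset.mem_range.1 hi)
    rw [show R.natDegree + 1 - 1 - i = R.natDegree - i by omega, coeff_reverse, revAt_le (Nat.sub_le _ _),
      Nat.sub_sub_self hi', key i hi', mul_smul_comm]
  have h2 : (R.reverse).map (C.bar : F →+* F) = (R.map (C.bar : F →+* F)).reverse := by
    ext i
    rw [coeff_map, coeff_reverse, coeff_reverse, coeff_map,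
      natDegree_map_eq_of_injective (C.bar : F →+* F).injective]
  have hbb : ((R.reverse.map (C.bar : F →+* F)).map (C.bar : F →+* F)) = R.reverse := by
    ext i
    simp [coeff_map, C.bar_bar]
  have hU : ∀ d, IsUnit ((J.stUnit A).1 ^ d).det := fun d =>
    (Matrix.isUnit_iff_isUnit_det _).1 ((J.stUnit A).isUnit.pow d)
  rw [← Matrix.rank_mul_eq_right_of_isUnit_det _ _ (hU R.natDegree), ← h1 (J.stUnit A) R,
    show aeval (J.stUnit A).1 R.reverse = J.st (aeval (A : Matrix (Fin n) (Fin n) F) (R.reverse.map (C.bar : F →+* F))) by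
      rw [st_aeval, hbb]; rfl, rank_st, dual, map_mul, aeval_C, Algebra.algebraMap_eq_smul_one, smul_mul_assoc,
    one_mul, rank_smul (inv_ne_zero (bar_ne_zero C h0j)), h2]

theorem stUnit_inv_of_mem {x : GL (Fin n) F} (hx : x ∈ Cfsg.GU n F q) : ((hermAdjoint C n).stUnit x)⁻¹ = x :=
  inv_eq_of_mul_eq_one_right (Units.ext ((hermAdjoint_iff C _).1 hx))

/-- Two monic irreducibles of equal degree with equal rank invariants have equal numbers of summands. -/
theorem count_eq_count {M : Type*} [AddCommGroup M] [Module F M] [Module F[X] M] [IsScalarTower F F[X] M]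
    (D : Decomp (F := F) M) {P Q : F[X]} (hP : P.Monic) (hPi : Irreducible P) (hQ : Q.Monic) (hQi : Irreducible Q)
    (hd : P.natDegree = Q.natDegree) (h : ∀ j, rk (P ^ j) M = rk (Q ^ j) M) (k : ℕ) :
    D.count P k = D.count Q k := by
  classical
  let m : F[X] → ℕ → ℕ := fun R j => ∑ i, if D.P i = R then min (D.e i) j else 0
  have he : ∀ (R : F[X]) j, (∑ i, if D.P i = R then min (D.e i) j * R.natDegree else 0) = m R j * R.natDegree :=
    fun R j => by
      simp only [m, Finset.sum_mul]
      exact Finset.sum_congr rfl fun i _ => by split_ifs <;> simp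
  have hm : ∀ j, m P j = m Q j := by
    intro j
    have h1 := D.rk_add hP hPi j
    have h2 := D.rk_add hQ hQi j
    rw [he, h j] at h1
    rw [he, ← hd] at h2
    exact Nat.eq_of_mul_eq_mul_right hPi.natDegree_pos (by omega)
  have key : ∀ R k, D.count R (k + 1) + m R k + m R (k + 2) = 2 * m R (k + 1) := by
    intro R k
    rw [Decomp.count, Nat.card_eq_fintype_card, Fintype.card_subtype, Finset.card_filter]
    simp only [m, ← Finset.sum_add_distrib, Finset.mul_sum]
    refine Finset.sum_congr rfl fun i _ => ?_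
    by_cases hR : D.P i = R <;> simp [hR] <;> split_ifs <;> omega
  rcases k with - | k
  · have : ∀ R, D.count R 0 = 0 := fun R => by
      haveI : IsEmpty {i // D.P i = R ∧ D.e i = 0} := ⟨fun i => (D.pos i.1).ne' i.2.2⟩
      exact Nat.card_of_isEmpty
    rw [this, this]
  · have := key P k
    have := key Q k
    have := hm k
    have := hm (k + 1)
    have := hm (k + 2)
    omega

/-- The elementary divisors of a unitary matrix are closed under the twisted reciprocal. -/
theorem count_dual {x : GL (Fin n) F} (hx : x ∈ Cfsg.GU n F q) (D : Decomp (F := F) (Mod (x : Matrix (Fin n) (Fin n) F)))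
    {P : F[X]} (hP : P.Monic) (hPi : Irreducible P) (h0 : P.eval 0 ≠ 0) (k : ℕ) :
    D.count (dual C P) k = D.count P k := by
  refine count_eq_count D (monic_dual C h0) (irreducible_dual C hP h0 hPi) hP hPi (natDegree_dual C h0) (fun j => ?_) k
  rw [rk_mod, rk_mod, map_pow, map_pow, ← rank_aeval_contragredient C x h0 j, stUnit_inv_of_mem C hx]

/-- The tuple of a unitary matrix is fixed by the twisted reciprocal. -/
theorem dual_classTup {x : GL (Fin n) F} (hx : x ∈ Cfsg.GU n F q) (k : Fin n) :
    dual C ((classTup x).1 k).1 = ((classTup x).1 k).1 := by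
  classical
  obtain ⟨t, ht⟩ : ∃ t : Multiset F[X], t = (Finset.univ.filter fun i => classIdx x i = k).val.map (classDecomp x).P :=
    ⟨_, rfl⟩
  have hmem : ∀ P ∈ t, P.Monic ∧ Irreducible P ∧ P.eval 0 ≠ 0 := fun P hP => by
    rw [ht] at hP
    obtain ⟨i, -, rfl⟩ := Multiset.mem_map.1 hP
    exact ⟨(classDecomp x).monic i, (classDecomp x).irred i, eval_P_ne_zero x i⟩
  have hcount : ∀ P, Multiset.count P t = (classDecomp x).count P (1 + k.val) := fun P => by
    rw [count_eq_classTup, normalizedFactors_classTup, ht]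
  have hperm : t.map (dual C) = t := by
    refine Multiset.ext.2 fun P => ?_
    by_cases hP : P.Monic ∧ Irreducible P ∧ P.eval 0 ≠ 0
    · have h1 : Multiset.count P (t.map (dual C)) = Multiset.count (dual C P) t := by
        rw [Multiset.count_map, Multiset.count, Multiset.countP_eq_card_filter]
        congr 1
        refine Multiset.filter_congr fun a ha => ⟨?_, ?_⟩
        · rintro rfl
          exact dual_dual C (hmem a ha).1 (hmem a ha).2.2
        · rintro rfl
          exact (dual_dual C hP.1 hP.2.2).symm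
      rw [h1, hcount, hcount, count_dual C hx _ hP.1 hP.2.1 hP.2.2]
    · rw [Multiset.count_eq_zero.2, Multiset.count_eq_zero.2 fun h => hP (hmem P h)]
      intro h
      obtain ⟨a, ha, rfl⟩ := Multiset.mem_map.1 h
      obtain ⟨am, ai, a0⟩ := hmem a ha
      exact hP ⟨monic_dual C a0, irreducible_dual C am a0 ai, eval_dual_ne_zero C am a0⟩
  rw [show ((classTup x).1 k).1 = t.prod by rw [ht]; rfl, dual_multiset_prod, hperm]

end CfsgLib.Char.SUClass
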