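import Mathlib
import Cfsg.Agent.Lib.Char.SUClass.Dual
import Cfsg.Agent.Lib.GLClass.CommSim
import Cfsg.Agent.Lib.IsometryConj.SUnitary

/-!
# Determinants of the centraliser of a unitary matrix

The centraliser in `GU` of a unitary matrix has all norm-one scalars to the power `k` among its determinants,
for every exponent `k` of an elementary divisor: split off, up to conjugation in `GU`, a cyclic unitary block.
-/

set_option autoImplicit false

namespace CfsgLib.Char.SUClass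

open Polynomial Matrix CfsgLib.SU CfsgLib.IsometryConj CfsgLib.GLClass CfsgLib.GLClass.CommSL

variable {F : Type*} [Field F] {ι κ : Type*} [Fintype ι] [DecidableEq ι] [Fintype κ] [DecidableEq κ]

theorem commute_aeval {A : Matrix ι ι F} {B : Matrix ι ι F} (h : Commute A B) (p : F[X]) :
    Commute A (aeval B p) := by
  induction p using Polynomial.induction_on with
  | C a => rw [aeval_C]; exact (Algebra.commutes a A).symm
  | add p r hp hr => rw [map_add]; exact hp.add_right hr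
  | monomial k a ih => rw [pow_succ, ← mul_assoc, map_mul, aeval_X]; exact ih.mul_right h

theorem rank_sim {g : Matrix ι ι F} {h : Matrix κ κ F} (H : Sim g h) : g.rank = h.rank := by
  obtain ⟨U, V, h1, h2, e⟩ := H
  refine le_antisymm ?_ ?_
  · rw [e]
    exact (Matrix.rank_mul_le_left _ _).trans (Matrix.rank_mul_le_right _ _)
  · have e' : h = V * g * U := by
      rw [e, ← Matrix.mul_assoc, ← Matrix.mul_assoc, h2, Matrix.one_mul, Matrix.mul_assoc, h2, Matrix.mul_one]
    rw [e']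
    exact (Matrix.rank_mul_le_left _ _).trans (Matrix.rank_mul_le_right _ _)

theorem sim_aeval {g : Matrix ι ι F} {h : Matrix κ κ F} (H : Sim g h) (p : F[X]) :
    Sim (aeval g p) (aeval h p) := by
  obtain ⟨U, V, h1, h2, rfl⟩ := H
  exact ⟨U, V, h1, h2, Sim.aeval h1 h2 h p⟩

theorem aeval_fromBlocks (g : Matrix ι ι F) (h : Matrix κ κ F) (p : F[X]) :
    aeval (fromBlocks g 0 0 h) p = fromBlocks (aeval g p) 0 0 (aeval h p) := by
  induction p using Polynomial.induction_on with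
  | C a =>
    rw [aeval_C, aeval_C, aeval_C, Algebra.algebraMap_eq_smul_one, Algebra.algebraMap_eq_smul_one,
      Algebra.algebraMap_eq_smul_one, ← fromBlocks_one, fromBlocks_smul, smul_zero, smul_zero]
  | add p r hp hr => rw [map_add, map_add, map_add, hp, hr, fromBlocks_add, add_zero, add_zero]
  | monomial k a ih =>
    rw [pow_succ, ← mul_assoc, map_mul (aeval (fromBlocks g 0 0 h)) (Polynomial.C a * X ^ k) X, ih, aeval_X,
      fromBlocks_multiply, map_mul (aeval g) (Polynomial.C a * X ^ k) X,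
      map_mul (aeval h) (Polynomial.C a * X ^ k) X, aeval_X, aeval_X]
    simp

theorem rank_fromBlocks (g : Matrix ι ι F) (h : Matrix κ κ F) :
    (fromBlocks g 0 0 h).rank = g.rank + h.rank := by
  unfold Matrix.rank
  let e : (ι ⊕ κ → F) ≃ₗ[F] (ι → F) × (κ → F) := LinearEquiv.sumArrowLequivProdArrow ι κ F F
  have h1 : (LinearMap.range (fromBlocks g 0 0 h).mulVecLin).map (e : (ι ⊕ κ → F) →ₗ[F] (ι → F) × (κ → F)) =
      (LinearMap.range g.mulVecLin).prod (LinearMap.range h.mulVecLin) := by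
    refine le_antisymm ?_ ?_
    · rintro _ ⟨_, ⟨v, rfl⟩, rfl⟩
      refine Submodule.mem_prod.2 ⟨⟨v ∘ Sum.inl, ?_⟩, ⟨v ∘ Sum.inr, ?_⟩⟩ <;>
        · ext i
          simp [e, fromBlocks_mulVec]
    · rintro ⟨_, _⟩ ⟨⟨v, rfl⟩, ⟨w, rfl⟩⟩
      refine ⟨_, ⟨Sum.elim v w, rfl⟩, ?_⟩
      ext i <;> simp [e, fromBlocks_mulVec]
  rw [← LinearEquiv.finrank_map_eq e, h1]
  exact (({ toFun := fun x => (⟨x.1.1, x.2.1⟩, ⟨x.1.2, x.2.2⟩)
            invFun := fun y => ⟨(y.1.1, y.2.1), y.1.2, y.2.2⟩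
            map_add' := fun x y => rfl
            map_smul' := fun t x => rfl
            left_inv := fun x => rfl
            right_inv := fun y => rfl } :
      ((LinearMap.range g.mulVecLin).prod (LinearMap.range h.mulVecLin)) ≃ₗ[F]
        (LinearMap.range g.mulVecLin × LinearMap.range h.mulVecLin))).finrank_eq.trans Module.finrank_prod

theorem rank_aeval_fromBlocks (g : Matrix ι ι F) (h : Matrix κ κ F) (p : F[X]) :
    (aeval (fromBlocks g 0 0 h) p).rank = (aeval g p).rank + (aeval h p).rank := by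
  rw [aeval_fromBlocks, rank_fromBlocks]

/-- Block diagonal sums on `Fin`. -/
noncomputable def blk {a b : ℕ} (A : Matrix (Fin a) (Fin a) F) (B : Matrix (Fin b) (Fin b) F) :
    Matrix (Fin (a + b)) (Fin (a + b)) F :=
  Matrix.reindex finSumFinEquiv finSumFinEquiv (fromBlocks A 0 0 B)

variable {a b : ℕ}

theorem blk_mul (A A' : Matrix (Fin a) (Fin a) F) (B B' : Matrix (Fin b) (Fin b) F) :
    blk A B * blk A' B' = blk (A * A') (B * B') := by
  rw [blk, blk, blk, Matrix.reindex_apply, Matrix.reindex_apply, Matrix.reindex_apply, Matrix.submatrix_mul_equiv,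
    fromBlocks_multiply]
  simp

theorem blk_one : blk (1 : Matrix (Fin a) (Fin a) F) (1 : Matrix (Fin b) (Fin b) F) = 1 := by
  simp [blk]

theorem det_blk (A : Matrix (Fin a) (Fin a) F) (B : Matrix (Fin b) (Fin b) F) :
    (blk A B).det = A.det * B.det := by
  rw [blk, Matrix.det_reindex_self, det_fromBlocks_zero₁₂]

theorem sim_blk (A : Matrix (Fin a) (Fin a) F) (B : Matrix (Fin b) (Fin b) F) :
    Sim (blk A B) (fromBlocks A 0 0 B) := sim_reindex _ _

theorem sim_reindex_fin (M : Matrix κ κ F) :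
    ∃ B : Matrix (Fin (Fintype.card κ)) (Fin (Fintype.card κ)) F, Sim B M :=
  ⟨_, sim_reindex (Fintype.equivFin κ) M⟩

/-- The vector space of a companion matrix is `AdjoinRoot φ`, the matrix acting as the root. -/
theorem exists_equiv_adjoinRoot {φ : F[X]} (hφ : φ.Monic) :
    ∃ e : (Fin φ.natDegree → F) ≃ₗ[F] AdjoinRoot φ,
      ∀ v, e (CommSL.comp φ *ᵥ v) = AdjoinRoot.root φ * e v := by
  refine ⟨(AdjoinRoot.powerBasis hφ.ne_zero).basis.equivFun.symm, fun v => ?_⟩
  obtain ⟨y, rfl⟩ := (AdjoinRoot.powerBasis hφ.ne_zero).basis.equivFun.surjective v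
  have h1 := aeval_leftMul_repr (AdjoinRoot.powerBasis hφ.ne_zero).basis (AdjoinRoot.root φ) X y
  rw [aeval_X, aeval_X] at h1
  rw [comp_eq_leftMul hφ]
  refine (congrArg (AdjoinRoot.powerBasis hφ.ne_zero).basis.equivFun.symm h1).trans ?_
  exact (LinearEquiv.symm_apply_apply _ _).trans
    (congrArg (AdjoinRoot.root φ * ·) (LinearEquiv.symm_apply_apply _ _).symm)

/-- `AdjoinRoot φ` as the quotient module. -/
noncomputable def adjoinQuo (φ : F[X]) : AdjoinRoot φ ≃ₗ[F] Quo φ where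
  toFun x := x
  invFun x := x
  left_inv _ := rfl
  right_inv _ := rfl
  map_add' _ _ := rfl
  map_smul' c x := by
    obtain ⟨z, rfl⟩ := AdjoinRoot.mk_surjective x
    rfl

theorem adjoinQuo_root_mul (φ : F[X]) (x : AdjoinRoot φ) :
    adjoinQuo φ (AdjoinRoot.root φ * x) = (X : F[X]) • adjoinQuo φ x := by
  obtain ⟨z, rfl⟩ := AdjoinRoot.mk_surjective x
  rfl

/-- The companion matrix of a monic polynomial has the module `F[X]/(φ)`. -/
theorem rank_comp {φ : F[X]} (hφ : φ.Monic) (f : F[X]) : (aeval (CommSL.comp φ) f).rank = rk f (Quo φ) := by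
  obtain ⟨e, he⟩ := exists_equiv_adjoinRoot hφ
  obtain ⟨T, hT⟩ : ∃ T : (Fin φ.natDegree → F) ≃ₗ[F] Quo φ,
      ∀ v, T (Matrix.toLinAlgEquiv' (CommSL.comp φ) • v) = (X : F[X]) • T v := by
    refine ⟨e.trans (adjoinQuo φ), fun v => ?_⟩
    rw [Module.End.smul_def, Matrix.toLinAlgEquiv'_apply]
    simp only [LinearEquiv.trans_apply, he, adjoinQuo_root_mul]
  rw [← rk_mod]
  exact rk_congr (LinearEquiv.ofAEval _ T hT) f

theorem sim_cm_decomp {A : Matrix ι ι F} (D : Decomp (F := F) (Mod A)) :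
    ∃ l : List F[X], (∀ i, D.P i ^ D.e i ∈ l) ∧ (∀ φ ∈ l, ∃ i, φ = D.P i ^ D.e i) ∧ Sim A (CM l) := by
  classical
  let en := (Fintype.equivFin D.ι).symm
  let φ : Fin (Fintype.card D.ι) → F[X] := fun i => D.P (en i) ^ D.e (en i)
  obtain ⟨l, hl, e, he⟩ := exists_equiv_ofFn _ φ fun i => (D.monic _).pow _
  refine ⟨l, fun i => ?_, fun ψ hψ => ?_, ?_⟩
  · subst hl
    exact (List.mem_ofFn' _ _).2 ⟨en.symm i, by simp [φ]⟩
  · subst hl
    obtain ⟨i, rfl⟩ := (List.mem_ofFn' _ _).1 hψ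
    exact ⟨en i, rfl⟩
  let o := Module.AEval'.of (Matrix.toLinAlgEquiv' A)
  let R : ((i : D.ι) → Quo (D.P i ^ D.e i)) ≃ₗ[F] (∀ i, AdjoinRoot (φ i)) :=
    (LinearEquiv.piCongrLeft' F (fun i => Quo (D.P i ^ D.e i)) en.symm)
  let T : (ι → F) ≃ₗ[F] (Idx l → F) := o.trans ((D.equiv.restrictScalars F).trans (R.trans e.symm))
  refine Sim.symm (sim_of_equiv T fun v => ?_)
  refine e.injective (funext fun i => ?_)
  rw [he]
  simp only [T, LinearEquiv.trans_apply, LinearEquiv.apply_symm_apply, LinearEquiv.restrictScalars_apply]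
  have hx : o (A *ᵥ v) = (X : F[X]) • o v := by
    simp only [o]
    rw [Module.AEval'.X_smul_of]
    rfl
  rw [hx, map_smul]
  obtain ⟨y, hy⟩ := Submodule.mkQ_surjective _ (D.equiv (o v) (en i))
  show AdjoinRoot.root (φ i) * (show AdjoinRoot (φ i) from D.equiv (o v) (en i)) =
    (show AdjoinRoot (φ i) from ((X : F[X]) • D.equiv (o v)) (en i))
  rw [Pi.smul_apply, ← hy]
  rfl

theorem det_aeval_comp {φ : F[X]} (hφ : φ.Monic) (c : F[X]) :
    (aeval (CommSL.comp φ) c).det = LinearMap.det ((LinearMap.lsmul F[X] (Quo φ) c).restrictScalars F) := by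
  haveI := finite_quo hφ
  have h1 : aeval (CommSL.comp φ) c = Algebra.leftMulMatrix (AdjoinRoot.powerBasis hφ.ne_zero).basis (AdjoinRoot.mk φ c) := by
    rw [comp_eq_leftMul hφ]
    exact (Polynomial.aeval_algHom_apply _ _ _).trans (congrArg _ (AdjoinRoot.aeval_eq c))
  rw [h1]
  show (LinearMap.toMatrix _ _ _).det = _
  refine (LinearMap.det_toMatrix _ _).trans ?_
  refine congrArg LinearMap.det (LinearMap.ext fun y => ?_)
  obtain ⟨z, rfl⟩ := AdjoinRoot.mk_surjective y
  rfl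

theorem aeval_comp_eq_zero {φ : F[X]} (hφ : φ.Monic) {c : F[X]} (h : φ ∣ c) : aeval (CommSL.comp φ) c = 0 := by
  rw [comp_eq_leftMul hφ]
  exact (Polynomial.aeval_algHom_apply _ _ _).trans
    ((congrArg _ ((AdjoinRoot.aeval_eq c).trans (AdjoinRoot.mk_eq_zero.2 h))).trans (map_zero _))

/-! ### unitary blocks -/

variable [Fintype F] {q n : ℕ} (C : UCtx F q)

theorem st_blk (A : Matrix (Fin a) (Fin a) F) (B : Matrix (Fin b) (Fin b) F) :
    (hermAdjoint C (a + b)).st (blk A B) = blk ((hermAdjoint C a).st A) ((hermAdjoint C b).st B) := by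
  rw [bar_map_eq, blk, blk, bar_map_eq, bar_map_eq]
  simp only [Matrix.reindex_apply, ← Matrix.submatrix_map, Matrix.transpose_submatrix, fromBlocks_map,
    fromBlocks_transpose]
  simp

/-- The block sum of invertible matrices. -/
noncomputable def blkU (A : GL (Fin a) F) (B : GL (Fin b) F) : GL (Fin (a + b)) F :=
  ⟨blk A.1 B.1, blk (A⁻¹ : GL (Fin a) F).1 (B⁻¹ : GL (Fin b) F).1,
    by rw [blk_mul, ← Units.val_mul, ← Units.val_mul, mul_inv_cancel, mul_inv_cancel]; exact blk_one,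
    by rw [blk_mul, ← Units.val_mul, ← Units.val_mul, inv_mul_cancel, inv_mul_cancel]; exact blk_one⟩

include C in
theorem blkU_mem {A : GL (Fin a) F} {B : GL (Fin b) F} (hA : A ∈ Cfsg.GU a F q) (hB : B ∈ Cfsg.GU b F q) :
    blkU A B ∈ Cfsg.GU (a + b) F q := by
  rw [hermAdjoint_iff C] at hA hB ⊢
  show (hermAdjoint C (a + b)).st (blk A.1 B.1) * blk A.1 B.1 = 1
  rw [st_blk, blk_mul, hA, hB, blk_one]

/-- Rank invariants fixed by the twisted reciprocal make a matrix similar to a unitary one. -/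
theorem exists_unitary_similar (hF : Fintype.card F = q ^ 2) {m : ℕ} (A : GL (Fin m) F)
    (h : ∀ Q : F[X], Q.Monic → Irreducible Q → Q.eval 0 ≠ 0 → ∀ j,
      (aeval A.1 (dual C Q) ^ j).rank = (aeval A.1 Q ^ j).rank) :
    ∃ B : ↥(Cfsg.GU m F q), IsConj A (B : GL (Fin m) F) := by
  refine (gu_similar_iff hF A).2 ?_
  have hpow : ((A : Matrix (Fin m) (Fin m) F).map (fun x : F => x ^ q))ᵀ = (hermAdjoint C m).st A.1 := by
    ext i j
    simp [hermAdjoint, C.bar_eq]
  rw [hpow, show ((hermAdjoint C m).st A.1)⁻¹ = (((hermAdjoint C m).stUnit A)⁻¹ : GL (Fin m) F).1 from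
    (Matrix.coe_units_inv ((hermAdjoint C m).stUnit A)).symm]
  refine (isConj_iff_rank _ _).2 fun Q hQ hQi j => ?_
  by_cases h0 : Q.eval 0 = 0
  · have hX : Q = X := by
      have hdvd : (X : F[X]) ∣ Q := X_dvd_iff.2 (by rwa [coeff_zero_eq_eval_zero])
      exact (eq_of_monic_of_associated monic_X hQ (irreducible_X.associated_of_dvd hQi hdvd)).symm
    rw [hX, aeval_X, aeval_X, Matrix.rank_of_isUnit _ (A.isUnit.pow j),
      Matrix.rank_of_isUnit _ (((hermAdjoint C m).stUnit A)⁻¹.isUnit.pow j)]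
  · rw [rank_aeval_contragredient C A h0 j, h Q hQ hQi h0 j]

theorem exists_det_centralizer (hF : Fintype.card F = q ^ 2) (x : ↥(Cfsg.GU n F q))
    (D : Decomp (F := F) (Mod ((x : GL (Fin n) F) : Matrix (Fin n) (Fin n) F))) (i₀ : D.ι)
    (hP0 : (D.P i₀).eval 0 ≠ 0) (v : C.unitOne) :
    ∃ V : ↥(Cfsg.GU n F q), Commute V x ∧ C.detHom V = v ^ D.e i₀ := by
  classical
  set P := D.P i₀ with hPdef
  set k := D.e i₀ with hkdef
  have hPm : P.Monic := D.monic i₀
  have hPi : Irreducible P := D.irred i₀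
  have hP'm := monic_dual C hP0
  have hP'i := irreducible_dual C hPm hP0 hPi
  have hP'0 := eval_dual_ne_zero C hPm hP0
  obtain ⟨d, hd, hdv⟩ := exists_div_bar C (C.mem_unitOne.1 v.2)
  obtain ⟨c₀, hc₀⟩ := exists_det_quo_pow hPm hPi k d hd
  obtain ⟨l, hl, hlmem, hsim⟩ := sim_cm_decomp D
  have hrkP : ∀ {R : F[X]}, R.Monic → Irreducible R → ∀ {Q : F[X]}, Q.Monic → Irreducible Q → ∀ j,
      (aeval (CommSL.comp (R ^ k)) Q ^ j).rank = if R = Q then (k - j) * R.natDegree else k * R.natDegree := by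
    intro R hR hRi Q hQ hQi j
    rw [← map_pow, rank_comp (hR.pow k)]
    split_ifs with h
    · subst h; exact rk_quo_self hR j k
    · exact rk_quo_ne hR hRi hQ hQi h j k
  have hdiff : ∀ {R : F[X]}, R.Monic → R.eval 0 ≠ 0 → ∀ {Q : F[X]}, Q.Monic → Q.eval 0 ≠ 0 →
      (R = dual C Q ↔ dual C R = Q) := fun {R} hR hR0 {Q} hQ hQ0 =>
    ⟨fun h => by rw [h, dual_dual C hQ hQ0], fun h => by rw [← h, dual_dual C hR hR0]⟩
  obtain ⟨φ, rest, c, hφ, hsplit, hφ0, hrank, hdet⟩ :
      ∃ (φ : F[X]) (rest : List F[X]) (c : F[X]), φ.Monic ∧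
        Sim ((x : GL (Fin n) F) : Matrix (Fin n) (Fin n) F) (fromBlocks (CommSL.comp φ) 0 0 (CM rest)) ∧ φ.eval 0 ≠ 0 ∧
        (∀ Q : F[X], Q.Monic → Irreducible Q → Q.eval 0 ≠ 0 → ∀ j,
          (aeval (CommSL.comp φ) (dual C Q) ^ j).rank = (aeval (CommSL.comp φ) Q ^ j).rank) ∧
        (aeval (CommSL.comp φ) c).det = d ^ k := by
    have h1 : l.Perm (P ^ k :: l.erase (P ^ k)) := List.perm_cons_erase (hl i₀)
    by_cases hsd : dual C P = P
    · refine ⟨P ^ k, l.erase (P ^ k), c₀, hPm.pow k, hsim.trans (cm_perm h1),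
        by rw [eval_pow]; exact pow_ne_zero _ hP0, fun Q hQ hQi hQ0 j => ?_,
        by rw [det_aeval_comp (hPm.pow k)]; exact hc₀⟩
      rw [hrkP hPm hPi (monic_dual C hQ0) (irreducible_dual C hQ hQ0 hQi), hrkP hPm hPi hQ hQi]
      exact if_congr (by rw [hdiff hPm hP0 hQ hQ0, hsd]) rfl rfl
    · have hne : dual C P ^ k ≠ P ^ k := fun h => hsd (eq_of_monic_of_associated hP'm hPm
        (hP'i.associated_of_dvd hPi (hP'i.prime.dvd_of_dvd_pow (h ▸ dvd_pow_self _ (D.pos i₀).ne'))))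
      have hmem : dual C P ^ k ∈ l.erase (P ^ k) := by
        refine (List.mem_erase_of_ne hne).2 ?_
        have hc : 0 < D.count (dual C P) k := by
          rw [count_dual C x.2 D hPm hPi hP0 k]
          exact Nat.card_pos_iff.2 ⟨⟨⟨i₀, rfl, rfl⟩⟩, inferInstance⟩
        obtain ⟨⟨i, hi1, hi2⟩⟩ := (Nat.card_pos_iff.1 hc).1
        rw [← hi1, ← hi2]
        exact hl i
      have hco : IsCoprime P (dual C P) := hPi.coprime_iff_not_dvd.2 fun h =>
        hsd (eq_of_monic_of_associated hPm hP'm (hPi.associated_of_dvd hP'i h)).symm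
      have hco' : IsCoprime (P ^ k) (dual C P ^ k) := hco.pow
      have h2 : l.Perm (P ^ k :: dual C P ^ k :: (l.erase (P ^ k)).erase (dual C P ^ k)) :=
        h1.trans ((List.perm_cons_erase hmem).cons _)
      have hs2 : Sim (CommSL.comp (P ^ k * dual C P ^ k)) (fromBlocks (CommSL.comp (P ^ k)) 0 0 (CommSL.comp (dual C P ^ k))) :=
        Cyc.sim (cyc_comp ((hPm.pow k).mul (hP'm.pow k)))
          (cyc_blocks hco' (cyc_comp (hPm.pow k)) (cyc_comp (hP'm.pow k)))
      obtain ⟨u, w, huw⟩ := hco'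
      refine ⟨P ^ k * dual C P ^ k, _, 1 + (c₀ - 1) * (w * dual C P ^ k), (hPm.pow k).mul (hP'm.pow k),
        (hsim.trans (cm_perm h2)).trans (cm_merge (hPm.pow k) (hP'm.pow k) hco.pow _),
        by rw [eval_mul, eval_pow, eval_pow]; exact mul_ne_zero (pow_ne_zero _ hP0) (pow_ne_zero _ hP'0),
        fun Q hQ hQi hQ0 j => ?_, ?_⟩
      · rw [← map_pow, ← map_pow, rank_sim (sim_aeval hs2 _), rank_sim (sim_aeval hs2 _), rank_aeval_fromBlocks,
          rank_aeval_fromBlocks, map_pow, map_pow, map_pow, map_pow,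
          hrkP hPm hPi (monic_dual C hQ0) (irreducible_dual C hQ hQ0 hQi), hrkP hPm hPi hQ hQi,
          hrkP hP'm hP'i (monic_dual C hQ0) (irreducible_dual C hQ hQ0 hQi), hrkP hP'm hP'i hQ hQi,
          natDegree_dual C hP0]
        have e1 : P = dual C Q ↔ dual C P = Q := hdiff hPm hP0 hQ hQ0
        have e2 : dual C P = dual C Q ↔ P = Q := by
          rw [hdiff hP'm hP'0 hQ hQ0, dual_dual C hPm hP0]
        rw [if_congr e1 rfl rfl, if_congr e2 rfl rfl, add_comm]
      · rw [(sim_aeval hs2 _).det_eq, aeval_fromBlocks, det_fromBlocks_zero₁₂]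
        have e1 : aeval (CommSL.comp (P ^ k)) (1 + (c₀ - 1) * (w * dual C P ^ k)) = aeval (CommSL.comp (P ^ k)) c₀ := by
          rw [← sub_eq_zero, ← map_sub]
          exact aeval_comp_eq_zero (hPm.pow k) ⟨-(c₀ - 1) * u, by linear_combination (c₀ - 1) * huw⟩
        have e2 : aeval (CommSL.comp (dual C P ^ k)) (1 + (c₀ - 1) * (w * dual C P ^ k)) = 1 := by
          rw [map_add, map_one, add_eq_left]
          exact aeval_comp_eq_zero (hP'm.pow k) ⟨(c₀ - 1) * w, by ring⟩
        rw [e1, e2, Matrix.det_one, mul_one, det_aeval_comp (hPm.pow k)]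
        exact hc₀
  obtain ⟨B₀, hB₀⟩ := sim_reindex_fin (CM rest)
  generalize Fintype.card (Idx rest) = b at B₀ hB₀
  obtain rfl : n = φ.natDegree + b := by
    obtain ⟨U, V, h1, h2, -⟩ := hsplit.trans ((Sim.refl (CommSL.comp φ)).blocks hB₀.symm)
    let e : (Fin φ.natDegree ⊕ Fin b → F) ≃ₗ[F] (Fin n → F) := LinearEquiv.ofLinear (Matrix.toLin' U)
      (Matrix.toLin' V) (by rw [← Matrix.toLin'_mul, h1, Matrix.toLin'_one])
      (by rw [← Matrix.toLin'_mul, h2, Matrix.toLin'_one])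
    have := e.finrank_eq
    rw [Module.finrank_pi, Module.finrank_pi, Fintype.card_sum, Fintype.card_fin, Fintype.card_fin,
      Fintype.card_fin] at this
    exact this.symm
  have hblock : Sim ((x : GL (Fin (φ.natDegree + b)) F) : Matrix (Fin (φ.natDegree + b)) (Fin (φ.natDegree + b)) F) (fromBlocks (CommSL.comp φ) 0 0 B₀) :=
    hsplit.trans ((Sim.refl _).blocks hB₀.symm)
  have hdetprod : (CommSL.comp φ).det * B₀.det ≠ 0 := by
    rw [← det_fromBlocks_zero₁₂, ← hblock.det_eq]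
    exact ((Matrix.isUnit_iff_isUnit_det _).1 (x : GL (Fin (φ.natDegree + b)) F).isUnit).ne_zero
  let A : GL (Fin φ.natDegree) F :=
    Matrix.GeneralLinearGroup.mkOfDetNeZero (CommSL.comp φ) (left_ne_zero_of_mul hdetprod)
  let B : GL (Fin b) F := Matrix.GeneralLinearGroup.mkOfDetNeZero B₀ (right_ne_zero_of_mul hdetprod)
  obtain ⟨A', hA'⟩ := exists_unitary_similar C hF A hrank
  obtain ⟨B', hB'⟩ := exists_unitary_similar C hF B fun Q hQ hQi hQ0 j => by
    have hx : ∀ R : F[X], ((aeval ((x : GL (Fin (φ.natDegree + b)) F) : Matrix (Fin (φ.natDegree + b)) (Fin (φ.natDegree + b)) F)) R ^ j).rank =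
        (aeval (CommSL.comp φ) R ^ j).rank + (aeval B₀ R ^ j).rank := fun R => by
      rw [← map_pow, rank_sim (sim_aeval hblock _), rank_aeval_fromBlocks, map_pow, map_pow]
    have h1 := rank_aeval_contragredient C (x : GL (Fin (φ.natDegree + b)) F) hQ0 j
    rw [stUnit_inv_of_mem C x.2, hx, hx, hrank Q hQ hQi hQ0 j] at h1
    exact (Nat.add_left_cancel h1).symm
  have hAs : Sim ((A' : GL (Fin φ.natDegree) F) : Matrix (Fin φ.natDegree) (Fin φ.natDegree) F) (CommSL.comp φ) :=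
    (sim_of_isConj ((Units.coeHom (Matrix (Fin φ.natDegree) (Fin φ.natDegree) F)).map_isConj hA')).symm
  have hBs : Sim ((B' : GL (Fin b) F) : Matrix (Fin b) (Fin b) F) B₀ :=
    (sim_of_isConj ((Units.coeHom (Matrix (Fin b) (Fin b) F)).map_isConj hB')).symm
  let y : ↥(Cfsg.GU (φ.natDegree + b) F q) := ⟨blkU A' B', blkU_mem C A'.2 B'.2⟩
  obtain ⟨U, hU⟩ : ∃ U : ↥(Cfsg.GU (φ.natDegree + b) F q), U * y * U⁻¹ = x := by
    refine isConj_iff.1 ((gu_isConj_iff hF _ _).2 (isConj_units ?_))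
    refine isConj_of_sim ?_
    exact ((sim_blk _ _).trans (hAs.blocks hBs)).trans hblock.symm
  have hdu : (aeval ((A' : GL (Fin φ.natDegree) F) : Matrix (Fin φ.natDegree) (Fin φ.natDegree) F) c).det = d ^ k :=
    ((sim_aeval hAs c).det_eq).trans hdet
  let u : GL (Fin φ.natDegree) F :=
    Matrix.GeneralLinearGroup.mkOfDetNeZero (aeval ((A' : GL (Fin φ.natDegree) F) : Matrix (Fin φ.natDegree) (Fin φ.natDegree) F) c)
      (by rw [hdu]; exact pow_ne_zero _ hd)
  set J := hermAdjoint C φ.natDegree with hJ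
  have hA'u : J.stUnit (A' : GL (Fin φ.natDegree) F) = ((A' : GL (Fin φ.natDegree) F))⁻¹ :=
    eq_inv_of_mul_eq_one_left (Units.ext ((hermAdjoint_iff C _).1 A'.2))
  have huA : Commute u (A' : GL (Fin φ.natDegree) F) := Units.ext (by
    have h := (Commute.all c (X : F[X])).map (aeval ((A' : GL (Fin φ.natDegree) F) : Matrix (Fin φ.natDegree) (Fin φ.natDegree) F))
    rw [aeval_X] at h
    exact h.eq)
  have hsA : Commute (J.stUnit u) (A' : GL (Fin φ.natDegree) F) := by
    have h : Commute (J.stUnit u) (J.stUnit (A' : GL (Fin φ.natDegree) F)) := by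
      unfold Commute SemiconjBy
      rw [← J.stUnit_mul, ← J.stUnit_mul, huA.eq]
    rw [hA'u] at h
    simpa using h.inv_right
  have hsu : J.stUnit u * u = u * J.stUnit u := Units.ext (by
    have h : Commute ((J.stUnit u : GL (Fin φ.natDegree) F) : Matrix (Fin φ.natDegree) (Fin φ.natDegree) F)
        ((A' : GL (Fin φ.natDegree) F) : Matrix (Fin φ.natDegree) (Fin φ.natDegree) F) := congrArg Units.val hsA.eq
    exact (commute_aeval h c).eq)
  have hW : u * (J.stUnit u)⁻¹ ∈ Cfsg.GU φ.natDegree F q := by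
    refine (hermAdjoint_iff C _).2 (congrArg Units.val
      (show J.stUnit (u * (J.stUnit u)⁻¹) * (u * (J.stUnit u)⁻¹) = 1 from ?_))
    have hstst : J.stUnit (J.stUnit u) = u := Units.ext (J.st_st _)
    rw [J.stUnit_mul, J.stUnit_inv, hstst, mul_assoc, ← mul_assoc (J.stUnit u), hsu]
    group
  have hWd : (u * (J.stUnit u)⁻¹ : GL (Fin φ.natDegree) F).1.det = (((v : Fˣ) : F)) ^ k := by
    have hdet' : (J.stUnit u : GL (Fin φ.natDegree) F).1.det = C.bar d ^ k := by
      show (J.st (aeval ((A' : GL (Fin φ.natDegree) F) : Matrix (Fin φ.natDegree) (Fin φ.natDegree) F) c)).det = _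
      rw [hJ, bar_map_eq, Matrix.det_transpose, ← map_pow, ← hdu]
      exact (C.bar.toRingHom.map_det _).symm
    have h1 : (u * (J.stUnit u)⁻¹ : GL (Fin φ.natDegree) F).1.det * C.bar d ^ k = d ^ k := by
      rw [← hdet', ← Matrix.det_mul, ← Units.val_mul, inv_mul_cancel_right]
      exact hdu
    refine mul_right_cancel₀ (pow_ne_zero k ((map_ne_zero C.bar).2 hd)) (h1.trans ?_)
    rw [← mul_pow, hdv]
  let W : ↥(Cfsg.GU (φ.natDegree + b) F q) :=
    ⟨blkU (u * (J.stUnit u)⁻¹) 1, blkU_mem C hW (one_mem _)⟩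
  have hWy : Commute W y := Subtype.ext (Units.ext (by
    show blk _ _ * blk _ _ = blk _ _ * blk _ _
    rw [blk_mul, blk_mul, Units.val_one, one_mul, mul_one, ← Units.val_mul, ← Units.val_mul,
      (huA.mul_left hsA.inv_left).eq]))
  refine ⟨U * W * U⁻¹, ?_, ?_⟩
  · rw [← hU]
    exact hWy.conj U
  · rw [map_mul, map_mul, map_inv, mul_inv_cancel_comm]
    refine Subtype.ext (Units.ext ?_)
    rw [C.detHom_val]
    show (blk _ _).det = _
    rw [det_blk, Units.val_one, Matrix.det_one, mul_one, hWd, SubmonoidClass.coe_pow, Units.val_pow_eq_pow_val]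

end CfsgLib.Char.SUClass
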