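import Mathlib
import Cfsg.Agent.Lib.Char.SUClass.Dual
import Cfsg.Agent.Lib.IsometryConj.SUCharpoly
import Cfsg.Agent.Lib.SU.Descent

/-!
# Tuples fixed by the twisted reciprocal: the bound `O(q^n)` for their number
-/

set_option autoImplicit false

namespace CfsgLib.Char.SUClass

open Polynomial Finset CfsgLib.SU CfsgLib.GLClass

variable {F : Type*} [Field F] [Fintype F] {q : ℕ} (C : UCtx F q) (hF : Fintype.card F = q ^ 2)

/-- Tuples fixed by the twisted reciprocal. -/
abbrev STup (f j n : ℕ) : Type _ := {g : Tup F f j n // ∀ i, dual C (g.1 i).1 = (g.1 i).1}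

/-- Their number. -/
noncomputable def sCard (f j n : ℕ) : ℕ := Nat.card (STup C f j n)

/-- The number of fixed polynomials of a degree is at most this. -/
def sCount (q i : ℕ) : ℕ := if i = 0 then 1 else (q + 1) * q ^ (i - 1)

theorem finite_sTup (f j n : ℕ) : Finite (STup C f (j + 1) n) := by
  haveI := finite_tup (F := F) f j n
  infer_instance

include hF in
theorem card_sym_deg (i : ℕ) :
    Nat.card {g : MonicNZ F // g.1.natDegree = i ∧ dual C g.1 = g.1} ≤ sCount q i := by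
  classical
  rcases i with - | m
  · haveI : Subsingleton {g : MonicNZ F // g.1.natDegree = 0 ∧ dual C g.1 = g.1} :=
      ⟨fun a b => Subtype.ext ((a.1.eq_one_of_natDegree a.2.1).trans (b.1.eq_one_of_natDegree b.2.1).symm)⟩
    exact Finite.card_le_one_iff_subsingleton.2 inferInstance
  let σ : Fˣ → (Fin m → F) → (Fin m → F) := fun c x j => (c : F) * C.bar (x j.rev)
  have hσ : ∀ c : C.unitOne, Nat.card {x // σ (c : Fˣ) x = x} = q ^ m := fun c =>
    CfsgLib.IsometryConj.card_fixed_semilinear C hF (σ c) (fun x y => funext fun j => by simp [σ, mul_add])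
      (fun d x => funext fun j => by simp [σ, mul_left_comm]) (fun x => funext fun j => by
        have hc := C.mem_unitOne.1 c.2
        simp only [σ, map_mul, C.bar_bar, Fin.rev_rev, ← mul_assoc, hc, one_mul])
  have hu : ∀ g : {g : MonicNZ F // g.1.natDegree = m + 1 ∧ dual C g.1 = g.1},
      g.1.1.eval 0 * C.bar (g.1.1.eval 0) = 1 := fun g => by
    have h := eval_dual C g.1.2.1
    rw [g.2.2] at h
    calc g.1.1.eval 0 * C.bar (g.1.1.eval 0) = (C.bar (g.1.1.eval 0))⁻¹ * C.bar (g.1.1.eval 0) :=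
          congrArg (· * C.bar (g.1.1.eval 0)) h
      _ = 1 := inv_mul_cancel₀ (bar_ne_zero C g.1.2.2)
  let Φ : {g : MonicNZ F // g.1.natDegree = m + 1 ∧ dual C g.1 = g.1} →
      Σ c : C.unitOne, {x // σ (c : Fˣ) x = x} := fun g =>
    ⟨⟨Units.mk0 _ g.1.2.2, C.mem_unitOne.2 (hu g)⟩, fun j => g.1.1.coeff (j.val + 1), funext fun j => by
      have h := coeff_dual C (g := g.1.1) (j.val + 1) (by rw [g.2.1]; omega)
      rw [g.2.2, g.2.1, show m + 1 - (j.val + 1) = (j.rev : ℕ) + 1 by rw [Fin.val_rev]; omega,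
        show (C.bar (g.1.1.eval 0))⁻¹ = g.1.1.eval 0 from inv_eq_of_mul_eq_one_left (hu g)] at h
      exact h.symm⟩
  have hinj : Function.Injective Φ := by
    intro a b hab
    have h0 : a.1.1.eval 0 = b.1.1.eval 0 :=
      congrArg (fun z : Σ c : C.unitOne, {x // σ (c : Fˣ) x = x} => ((z.1 : Fˣ) : F)) hab
    have h1 : ∀ j : Fin m, a.1.1.coeff (j.val + 1) = b.1.1.coeff (j.val + 1) := fun j =>
      congrArg (fun z : Σ c : C.unitOne, {x // σ (c : Fˣ) x = x} => z.2.1 j) hab
    refine Subtype.ext (Subtype.ext (Polynomial.ext fun i => ?_))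
    rcases lt_trichotomy i (m + 1) with hi | rfl | hi
    · rcases i with - | i
      · rw [coeff_zero_eq_eval_zero, coeff_zero_eq_eval_zero, h0]
      · exact h1 ⟨i, by omega⟩
    · exact ((congrArg a.1.1.coeff a.2.1).symm.trans a.1.2.1.coeff_natDegree).trans
        ((congrArg b.1.1.coeff b.2.1).symm.trans b.1.2.1.coeff_natDegree).symm
    · rw [coeff_eq_zero_of_natDegree_lt (by rw [a.2.1]; exact hi),
        coeff_eq_zero_of_natDegree_lt (by rw [b.2.1]; exact hi)]
  refine (Nat.card_le_card_of_injective Φ hinj).trans (le_of_eq ?_)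
  rw [Nat.card_sigma, Finset.sum_congr rfl fun c _ => hσ c, Finset.sum_const, Finset.card_univ,
    ← Nat.card_eq_fintype_card, C.card_unitOne hF, smul_eq_mul, sCount, if_neg (Nat.succ_ne_zero m),
    Nat.add_sub_cancel]

theorem sCard_zero (f : ℕ) {j : ℕ} (hj : 1 ≤ j) : sCard C f j 0 ≤ 1 := by
  obtain ⟨k, rfl⟩ : ∃ k, j = k + 1 := ⟨j - 1, by omega⟩
  haveI := finite_tup (F := F) f k 0
  exact (Nat.card_le_card_of_injective _ Subtype.val_injective).trans (le_of_eq (tupCard_zero f hj))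

theorem sCard_lt (f : ℕ) {j n : ℕ} (hn : 1 ≤ n) (hnj : n < j) : sCard C f j n = 0 := by
  obtain ⟨k, rfl⟩ : ∃ k, j = k + 1 := ⟨j - 1, by omega⟩
  haveI := finite_tup (F := F) f k n
  exact Nat.le_zero.1
    ((Nat.card_le_card_of_injective _ Subtype.val_injective).trans (le_of_eq (tupCard_lt f hn hnj)))

include hF in
theorem sCard_succ (f : ℕ) {j : ℕ} (hj : 1 ≤ j) (n : ℕ) :
    sCard C (f + 1) j n ≤ ∑ i ∈ range (n / j + 1), sCount q i * sCard C f (j + 1) (n - i * j) := by
  classical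
  let S : Fin (n / j + 1) → Type _ := fun i =>
    {g : MonicNZ F // g.1.natDegree = i.val ∧ dual C g.1 = g.1} × STup C f (j + 1) (n - i.val * j)
  haveI : ∀ i, Finite (S i) := fun i => by
    haveI := finite_deg (F := F) i.val
    haveI : Finite {g : MonicNZ F // g.1.natDegree = i.val ∧ dual C g.1 = g.1} :=
      Finite.of_injective (fun g => (⟨g.1, g.2.1⟩ : {g : MonicNZ F // g.1.natDegree = i.val}))
        fun a b h => Subtype.ext (congrArg Subtype.val h :)
    haveI := finite_sTup C f j (n - i.val * j)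
    infer_instance
  let Φ : STup C (f + 1) j n → Σ i, S i := fun g =>
    let x := tupEquiv f hj n g.1
    ⟨x.1, ⟨x.2.1.1, x.2.1.2, g.2 0⟩, ⟨x.2.2, fun i => g.2 i.succ⟩⟩
  let pr : (Σ i, S i) → Σ i : Fin (n / j + 1),
      {g : MonicNZ F // g.1.natDegree = i.val} × Tup F f (j + 1) (n - i.val * j) := fun y =>
    ⟨y.1, ⟨y.2.1.1, y.2.1.2.1⟩, y.2.2.1⟩
  have hinj : Function.Injective Φ := fun a b h =>
    Subtype.ext ((tupEquiv f hj n).injective (congrArg pr h :))
  refine (Nat.card_le_card_of_injective Φ hinj).trans ?_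
  rw [Nat.card_sigma]
  refine (Finset.sum_le_sum fun i _ => ?_).trans (le_of_eq (Fin.sum_univ_eq_sum_range
    (fun i => sCount q i * sCard C f (j + 1) (n - i * j)) (n / j + 1)))
  rw [Nat.card_prod]
  exact Nat.mul_le_mul_right _ (card_sym_deg C hF i.val)

/-! ### normalised sums -/

/-- The normalised number. -/
noncomputable def sDens (f j n : ℕ) : ℚ := (sCard C f j n : ℚ) / (q : ℚ) ^ n

/-- Its partial sums. -/
noncomputable def sSum (f j n : ℕ) : ℚ := ∑ m ∈ range n, sDens C f j m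

theorem sDens_nonneg (f j n : ℕ) : 0 ≤ sDens C f j n := by unfold sDens; positivity

include hF in
theorem two_le_q : 2 ≤ q := by
  have h : 1 < Fintype.card F := Fintype.one_lt_card
  rw [hF] at h
  rcases q with - | (- | k) <;> simp_all

include hF in
theorem sCount_div {j : ℕ} (hj : 1 ≤ j) (i : ℕ) :
    (sCount q i : ℚ) / (q : ℚ) ^ (i * j) =
      if i = 0 then 1 else (1 + 1 / (q : ℚ)) * (1 / (q : ℚ) ^ (j - 1)) ^ i := by
  have hq : (2 : ℚ) ≤ q := by exact_mod_cast two_le_q hF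
  rcases i with - | m
  · simp [sCount]
  · obtain ⟨k, rfl⟩ : ∃ k, j = k + 1 := ⟨j - 1, by omega⟩
    rw [sCount, if_neg (Nat.succ_ne_zero m), if_neg (Nat.succ_ne_zero m)]
    push_cast
    simp only [Nat.add_sub_cancel, one_div, inv_pow, ← pow_mul]
    field_simp
    ring

include hF in
theorem sDens_succ (f : ℕ) {j : ℕ} (hj : 1 ≤ j) (m L : ℕ) (hL : m / j < L) :
    sDens C (f + 1) j m ≤ ∑ i ∈ range L,
      (if i = 0 then 1 else (1 + 1 / (q : ℚ)) * (1 / (q : ℚ) ^ (j - 1)) ^ i) *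
        (if i * j ≤ m then sDens C f (j + 1) (m - i * j) else 0) := by
  have hq : (2 : ℚ) ≤ q := by exact_mod_cast two_le_q hF
  have hsub : range (m / j + 1) ⊆ range L := Finset.range_mono (by omega)
  refine le_trans ?_ (Finset.sum_le_sum_of_subset_of_nonneg hsub fun i _ _ => by
    have := sDens_nonneg C f (j + 1) (m - i * j)
    split_ifs <;> positivity)
  refine le_trans (div_le_div_of_nonneg_right (Nat.cast_le.2 (sCard_succ C hF f hj m)) (by positivity)) ?_
  rw [Nat.cast_sum, Finset.sum_div]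
  refine le_of_eq (Finset.sum_congr rfl fun i hi => ?_)
  have hle : i * j ≤ m := (Nat.le_div_iff_mul_le hj).1 (Nat.le_of_lt_succ (Finset.mem_range.1 hi))
  rw [if_pos hle, ← sCount_div hF hj, sDens, Nat.cast_mul]
  conv_lhs => rw [show m = i * j + (m - i * j) by omega, pow_add]
  simp only [Nat.add_sub_cancel_left]
  rw [mul_div_mul_comm]

/-- The geometric factor. -/
noncomputable def geo (x : ℚ) (j : ℕ) : ℚ := (1 + x * x ^ (j - 1)) / (1 - x ^ (j - 1))

include hF in
theorem sum_weights_le {j : ℕ} (hj : 2 ≤ j) (L : ℕ) :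
    ∑ i ∈ range L, (if i = 0 then 1 else (1 + 1 / (q : ℚ)) * (1 / (q : ℚ) ^ (j - 1)) ^ i) ≤
      geo (1 / q) j := by
  have hq : (2 : ℚ) ≤ q := by exact_mod_cast two_le_q hF
  set x : ℚ := 1 / q with hx
  have hs : 1 / (q : ℚ) ^ (j - 1) = x ^ (j - 1) := by rw [hx, div_pow, one_pow]
  rw [hs, geo]
  set s := x ^ (j - 1)
  have hx0 : 0 < x := by positivity
  have hs0 : 0 < s := by positivity
  have hs1 : s < 1 := pow_lt_one₀ hx0.le (by rw [hx, div_lt_one (by linarith)]; linarith) (by omega)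
  have h : ∀ L : ℕ, ∑ i ∈ range (L + 1), (if i = 0 then 1 else (1 + x) * s ^ i) =
      (1 + x * s - (1 + x) * s ^ (L + 1)) / (1 - s) := by
    intro L
    have : 1 - s ≠ 0 := by linarith
    induction L with
    | zero => simp; field_simp; ring
    | succ N ih =>
      rw [Finset.sum_range_succ, ih, if_neg (Nat.succ_ne_zero N)]
      field_simp
      ring
  rcases L with - | L
  · simp only [Finset.range_zero, Finset.sum_empty]
    exact div_nonneg (by positivity) (by linarith)
  · rw [h]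
    refine div_le_div_of_nonneg_right ?_ (by linarith)
    have : 0 < (1 + x) * s ^ (L + 1) := by positivity
    linarith

include hF in
theorem sSum_succ (f : ℕ) {j : ℕ} (hj : 2 ≤ j) (n : ℕ) {B : ℚ} (hB0 : 0 ≤ B)
    (hB : ∀ m ≤ n, sSum C f (j + 1) m ≤ B) : sSum C (f + 1) j n ≤ geo (1 / q) j * B := by
  refine le_trans (Finset.sum_le_sum fun m hm => sDens_succ C hF f (show 1 ≤ j by omega) m (n + 1)
    (lt_of_le_of_lt (Nat.div_le_self m j) (by have := Finset.mem_range.1 hm; omega))) ?_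
  rw [Finset.sum_comm]
  refine le_trans (Finset.sum_le_sum fun i _ => ?_) (le_trans (le_of_eq (Finset.sum_mul _ _ B).symm)
    (mul_le_mul_of_nonneg_right (sum_weights_le hF hj (n + 1)) hB0))
  rw [← Finset.mul_sum]
  refine mul_le_mul_of_nonneg_left ?_ (by split_ifs <;> positivity)
  rcases le_total n (i * j) with h | h
  · rw [Finset.sum_eq_zero fun m hm => if_neg (by have := Finset.mem_range.1 hm; omega)]
    exact hB0
  · conv_lhs => rw [show n = i * j + (n - i * j) by omega, Finset.sum_range_add]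
    rw [Finset.sum_eq_zero fun m hm => if_neg (by have := Finset.mem_range.1 hm; omega), zero_add]
    refine le_trans (le_of_eq (Finset.sum_congr rfl fun m _ => ?_)) (hB _ (Nat.sub_le _ _))
    rw [if_pos (by omega), Nat.add_sub_cancel_left]

theorem sSum_le_one (f : ℕ) {j : ℕ} (hj : 1 ≤ j) {n : ℕ} (hn : n ≤ j) : sSum C f j n ≤ 1 := by
  rcases n with - | n
  · simp [sSum]
  rw [sSum, Finset.sum_range_succ', Finset.sum_eq_zero fun m hm => by
    rw [sDens, sCard_lt C f (Nat.succ_pos m) (by have := Finset.mem_range.1 hm; omega)]; simp]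
  rw [zero_add, sDens, pow_zero, div_one]
  exact_mod_cast sCard_zero C f hj

theorem sSum_zero (j n : ℕ) (hj : 1 ≤ j) : sSum C 0 j n ≤ 1 := by
  rcases n with - | n
  · simp [sSum]
  rw [sSum, Finset.sum_range_succ', Finset.sum_eq_zero fun m _ => ?_]
  · rw [zero_add, sDens, pow_zero, div_one]
    exact_mod_cast sCard_zero C 0 hj
  · have : IsEmpty (STup C 0 j (m + 1)) := ⟨fun g => by simpa using g.1.2⟩
    rw [sDens, sCard, Nat.card_of_isEmpty]
    simp

include hF in
theorem sSum_tail : ∀ (f j n : ℕ), 3 ≤ j → sSum C f j n ≤ 1 / (1 - 3 * (1 / (q : ℚ)) ^ (j - 1)) := by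
  have hq : (2 : ℚ) ≤ q := by exact_mod_cast two_le_q hF
  set x : ℚ := 1 / q with hx
  have hx0 : 0 < x := by positivity
  have hx2 : x ≤ 1 / 2 := by rw [hx]; exact one_div_le_one_div_of_le two_pos hq
  have hpos : ∀ j, 3 ≤ j → 0 < 1 - 3 * x ^ (j - 1) := fun j hj => by
    have : x ^ (j - 1) ≤ (1 / 2) ^ 2 :=
      le_trans (pow_le_pow_of_le_one hx0.le (by linarith) (by omega)) (pow_le_pow_left₀ hx0.le hx2 2)
    norm_num at this
    linarith
  intro f
  induction f with
  | zero =>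
    intro j n hj
    refine (sSum_zero C j n (by omega)).trans ?_
    rw [le_div_iff₀ (hpos j hj)]
    have : 0 < x ^ (j - 1) := by positivity
    linarith
  | succ f ih =>
    intro j n hj
    have h1 : 0 < 1 / (1 - 3 * x ^ (j + 1 - 1)) := by have := hpos (j + 1) (by omega); positivity
    refine (sSum_succ C hF f (by omega) n h1.le fun m _ => ih (j + 1) m (by omega)).trans ?_
    obtain ⟨k, rfl⟩ : ∃ k, j = k + 1 := ⟨j - 1, by omega⟩
    simp only [geo, Nat.add_sub_cancel, ← hx]
    have hA := hpos (k + 1 + 1) (by omega)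
    have hB := hpos (k + 1) hj
    simp only [Nat.add_sub_cancel, pow_succ] at hA hB
    set s := x ^ k with hsdef
    have hs0 : 0 < s := by positivity
    rw [pow_succ, ← hsdef]
    have hs1 : 0 < 1 - s := by linarith
    rw [div_mul_div_comm, mul_one, div_le_div_iff₀ (mul_pos hs1 hA) hB]
    nlinarith [mul_pos hs0 hx0, mul_le_mul_of_nonneg_left hx2 hs0.le, mul_pos (mul_pos hs0 hx0) hs0]

include hF in
theorem sDens_one (f n : ℕ) : sDens C (f + 1) 1 n ≤ (1 + 1 / (q : ℚ)) * sSum C f 2 (n + 1) := by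
  have hq : (2 : ℚ) ≤ q := by exact_mod_cast two_le_q hF
  refine (sDens_succ C hF f le_rfl n (n + 1) (by simp)).trans ?_
  rw [sSum, Finset.mul_sum, ← Finset.sum_range_reflect (fun m => (1 + 1 / (q : ℚ)) * sDens C f 2 m)]
  refine Finset.sum_le_sum fun i hi => ?_
  have hi' := Nat.le_of_lt_succ (Finset.mem_range.1 hi)
  rw [Nat.mul_one, if_pos hi', show n + 1 - 1 - i = n - i by omega]
  refine mul_le_mul_of_nonneg_right ?_ (sDens_nonneg C _ _ _)
  have : 0 ≤ 1 / (q : ℚ) := by positivity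
  split_ifs <;> simp [this]

include hF in
theorem sSum_step {j n : ℕ} (hj : 2 ≤ j) {B : ℚ} (hB1 : 1 ≤ B) (hB : ∀ f m, m ≤ n → sSum C f (j + 1) m ≤ B)
    (f : ℕ) : sSum C f j n ≤ geo (1 / q) j * B := by
  rcases f with - | f
  · refine (sSum_zero C j n (by omega)).trans ?_
    have hq : (2 : ℚ) ≤ q := by exact_mod_cast two_le_q hF
    have h1 : 1 ≤ geo (1 / (q : ℚ)) j := by
      have hx0 : 0 < 1 / (q : ℚ) := by positivity
      have hs : (1 / (q : ℚ)) ^ (j - 1) < 1 :=
        pow_lt_one₀ hx0.le (by rw [div_lt_one (by linarith)]; linarith) (by omega)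
      rw [geo, le_div_iff₀ (by linarith)]
      have : 0 < (1 / (q : ℚ)) ^ (j - 1) := by positivity
      nlinarith
    nlinarith
  · exact sSum_succ C hF f hj n (by linarith) fun m hm => hB f m hm

include hF in
theorem sDens_le_two (hq : q = 2) (f n : ℕ) : sDens C (f + 1) 1 n ≤ 8291 / 1000 := by
  subst hq
  have h6 : ∀ g m, m ≤ n + 1 → sSum C g (5 + 1) m ≤ 32 / 29 := fun g m _ => by
    refine (sSum_tail C hF g 6 m (by norm_num)).trans (le_of_eq ?_); norm_num
  have h5 := sSum_step C hF (j := 5) (by norm_num) (by norm_num) h6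
  have g5 : geo (1 / ((2 : ℕ) : ℚ)) 5 * (32 / 29) = 33 / 30 * (32 / 29) := by norm_num [geo]
  have h5' : ∀ g m, m ≤ n + 1 → sSum C g (4 + 1) m ≤ 33 / 30 * (32 / 29) := fun g m hm => by
    rw [← g5]
    exact sSum_step C hF (j := 5) (by norm_num) (by norm_num) (fun g' m' h' => h6 g' m' (h'.trans hm)) g
  have g4 : geo (1 / ((2 : ℕ) : ℚ)) 4 = 17 / 14 := by norm_num [geo]
  have g3 : geo (1 / ((2 : ℕ) : ℚ)) 3 = 3 / 2 := by norm_num [geo]
  have g2 : geo (1 / ((2 : ℕ) : ℚ)) 2 = 5 / 2 := by norm_num [geo]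
  have h4' : ∀ g m, m ≤ n + 1 → sSum C g (3 + 1) m ≤ 17 / 14 * (33 / 30 * (32 / 29)) := fun g m hm => by
    rw [← g4]
    exact sSum_step C hF (j := 4) (by norm_num) (by norm_num) (fun g' m' h' => h5' g' m' (h'.trans hm)) g
  have h3' : ∀ g m, m ≤ n + 1 → sSum C g (2 + 1) m ≤ 3 / 2 * (17 / 14 * (33 / 30 * (32 / 29))) := fun g m hm => by
    rw [← g3]
    exact sSum_step C hF (j := 3) (by norm_num) (by norm_num) (fun g' m' h' => h4' g' m' (h'.trans hm)) g
  have h2 := sSum_step C hF (j := 2) le_rfl (by norm_num) h3' f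
  rw [g2] at h2
  refine (sDens_one C hF f n).trans ?_
  norm_num at h2 ⊢
  linarith

include hF in
theorem sDens_le_three (hq : 3 ≤ q) (f n : ℕ) : sDens C (f + 1) 1 n ≤ 10 / 3 := by
  have hx0 : 0 < 1 / (q : ℚ) := by positivity
  have hx : 1 / (q : ℚ) ≤ 1 / 3 := one_div_le_one_div_of_le (by norm_num) (by exact_mod_cast hq)
  have h3 : ∀ g m, m ≤ n + 1 → sSum C g (2 + 1) m ≤ 3 / 2 := fun g m _ => by
    refine (sSum_tail C hF g 3 m le_rfl).trans ?_
    rw [show (3 : ℕ) - 1 = 2 from rfl, div_le_iff₀ (by nlinarith)]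
    nlinarith
  have h2 := sSum_step C hF (j := 2) le_rfl (by norm_num) h3 f
  have hg : geo (1 / (q : ℚ)) 2 ≤ 5 / 3 := by
    rw [geo, show (2 : ℕ) - 1 = 1 from rfl, pow_one, div_le_iff₀ (by linarith)]
    nlinarith
  refine (sDens_one C hF f n).trans ?_
  calc (1 + 1 / (q : ℚ)) * sSum C f 2 (n + 1) ≤ (1 + 1 / (q : ℚ)) * (5 / 3 * (3 / 2)) :=
        mul_le_mul_of_nonneg_left (h2.trans (mul_le_mul_of_nonneg_right hg (by norm_num))) (by linarith)
    _ ≤ 10 / 3 := by linarith

include hF in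
theorem sDens_le_of_le_two (f : ℕ) {n : ℕ} (hn : n ≤ 2) :
    sDens C (f + 1) 1 n ≤ (1 + 1 / (q : ℚ)) * geo (1 / q) 2 := by
  refine (sDens_one C hF f n).trans (mul_le_mul_of_nonneg_left ?_ (by positivity))
  have := sSum_step C hF (j := 2) (n := n + 1) le_rfl le_rfl (fun g m hm => sSum_le_one C g (by norm_num) (by omega)) f
  rwa [mul_one] at this

include hF in
theorem sDens_le_of_eq_one (f : ℕ) : sDens C (f + 1) 1 1 ≤ 1 + 1 / (q : ℚ) := by
  refine (sDens_one C hF f 1).trans (le_of_le_of_eq (mul_le_mul_of_nonneg_left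
    (sSum_le_one C f (by norm_num) le_rfl) (by positivity)) (mul_one _))

end CfsgLib.Char.SUClass
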