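import Mathlib
import Cfsg.Agent.Lib.Char.SUClass.Series

/-!
# Fixed tuples of given constant product, weighted by the common divisor of their indices
-/

set_option autoImplicit false

open scoped Classical

namespace CfsgLib.Char.SUClass

open Polynomial Finset CfsgLib.SU CfsgLib.GLClass CfsgLib.IsometryConj

variable {F : Type*} [Field F] [Fintype F] {q : ℕ} (C : UCtx F q) (hF : Fintype.card F = q ^ 2)

/-- A parameter `s` with `u * s̄ = s`. -/
noncomputable def root (u : C.unitOne) : F := (exists_div_bar C (C.mem_unitOne.1 u.2)).choose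

theorem root_ne_zero (u : C.unitOne) : root C u ≠ 0 := (exists_div_bar C (C.mem_unitOne.1 u.2)).choose_spec.1

theorem root_spec (u : C.unitOne) : ((u : Fˣ) : F) * C.bar (root C u) = root C u :=
  (exists_div_bar C (C.mem_unitOne.1 u.2)).choose_spec.2

/-- Change the constant term, keeping the symmetry. -/
noncomputable def twPoly (u : C.unitOne) (g : F[X]) : F[X] :=
  if g.natDegree = 0 then g else
    Polynomial.C (root C u) * g + Polynomial.C (1 - root C u) * X ^ g.natDegree +
      Polynomial.C ((((u : Fˣ) : F) - root C u) * g.eval 0)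

theorem coeff_twPoly (u : C.unitOne) {g : F[X]} (hd : g.natDegree ≠ 0) (hm : g.Monic) (j : ℕ) :
    (twPoly C u g).coeff j = if j = 0 then ((u : Fˣ) : F) * g.eval 0
      else if j = g.natDegree then 1 else root C u * g.coeff j := by
  rw [twPoly, if_neg hd, coeff_add, coeff_add, coeff_C_mul, coeff_C_mul, coeff_X_pow, coeff_C]
  rcases eq_or_ne j 0 with rfl | hj
  · rw [if_neg (Ne.symm hd), if_pos rfl, if_pos rfl, coeff_zero_eq_eval_zero]
    ring
  · rw [if_neg hj, if_neg hj]
    rcases eq_or_ne j g.natDegree with rfl | hj'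
    · rw [if_pos rfl, if_pos rfl, hm.coeff_natDegree]
      ring
    · rw [if_neg hj', if_neg hj']
      ring

theorem twPoly_natDegree (u : C.unitOne) {g : F[X]} (hm : g.Monic) :
    (twPoly C u g).natDegree = g.natDegree ∧ (twPoly C u g).Monic := by
  by_cases hd : g.natDegree = 0
  · rw [twPoly, if_pos hd]; exact ⟨rfl, hm⟩
  have htop : (twPoly C u g).coeff g.natDegree = 1 := by
    rw [coeff_twPoly C u hd hm, if_neg hd, if_pos rfl]
  have hle : (twPoly C u g).natDegree ≤ g.natDegree := natDegree_le_iff_coeff_eq_zero.2 fun j hj => by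
    rw [coeff_twPoly C u hd hm, if_neg (by omega), if_neg (by omega), coeff_eq_zero_of_natDegree_lt hj, mul_zero]
  have he : (twPoly C u g).natDegree = g.natDegree :=
    le_antisymm hle (le_natDegree_of_ne_zero (by rw [htop]; exact one_ne_zero))
  exact ⟨he, by rw [Monic, leadingCoeff, he, htop]⟩

theorem twPoly_eval (u : C.unitOne) {g : F[X]} (hd : g.natDegree ≠ 0) (hm : g.Monic) :
    (twPoly C u g).eval 0 = ((u : Fˣ) : F) * g.eval 0 := by
  rw [← coeff_zero_eq_eval_zero, coeff_twPoly C u hd hm, if_pos rfl]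

theorem dual_twPoly (u : C.unitOne) {g : F[X]} (hm : g.Monic) (h0 : g.eval 0 ≠ 0) (hs : dual C g = g) :
    dual C (twPoly C u g) = twPoly C u g := by
  by_cases hd : g.natDegree = 0
  · rwa [twPoly, if_pos hd]
  obtain ⟨he, hm'⟩ := twPoly_natDegree C u hm
  have h0' : (twPoly C u g).eval 0 ≠ 0 := by
    rw [twPoly_eval C u hd hm]; exact mul_ne_zero (u : Fˣ).ne_zero h0
  have hg : ∀ j ≤ g.natDegree, g.coeff j = (C.bar (g.eval 0))⁻¹ * C.bar (g.coeff (g.natDegree - j)) :=
    fun j hj => by rw [← coeff_dual C j hj, hs]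
  have hc : (C.bar (g.eval 0))⁻¹ = g.eval 0 := by rw [← eval_dual C hm, hs]
  have huu : (C.bar ((u : Fˣ) : F))⁻¹ = ((u : Fˣ) : F) :=
    inv_eq_of_mul_eq_one_left (C.mem_unitOne.1 u.2)
  refine Polynomial.ext fun j => ?_
  rcases le_or_gt j g.natDegree with hj | hj
  · rw [coeff_dual C j (he.symm ▸ hj), twPoly_eval C u hd hm, he, map_mul, mul_inv, hc, huu,
      coeff_twPoly C u hd hm, coeff_twPoly C u hd hm]
    rcases eq_or_ne j 0 with rfl | hj0
    · rw [Nat.sub_zero, if_neg hd, if_pos rfl, if_pos rfl, map_one, mul_one]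
    rcases eq_or_ne j g.natDegree with rfl | hjd
    · rw [Nat.sub_self, if_pos rfl, if_neg hd, if_pos rfl, map_mul]
      have hu1 : ((u : Fˣ) : F) * C.bar ((u : Fˣ) : F) = 1 := C.mem_unitOne.1 u.2
      have hg1 : g.eval 0 * C.bar (g.eval 0) = 1 := by
        calc g.eval 0 * C.bar (g.eval 0) = (C.bar (g.eval 0))⁻¹ * C.bar (g.eval 0) := by rw [hc]
          _ = 1 := inv_mul_cancel₀ (bar_ne_zero C h0)
      linear_combination (g.eval 0 * C.bar (g.eval 0)) * hu1 + hg1
    · rw [if_neg (by omega), if_neg (by omega), if_neg hj0, if_neg hjd, map_mul, hg j hj, hc]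
      linear_combination (g.eval 0 * C.bar (g.coeff (g.natDegree - j))) * root_spec C u
  · rw [coeff_eq_zero_of_natDegree_lt (by rw [natDegree_dual C h0', he]; exact hj),
      coeff_eq_zero_of_natDegree_lt (by rw [he]; exact hj)]

theorem twPoly_injective (u : C.unitOne) {g h : F[X]} (hg : g.Monic) (hh : h.Monic)
    (e : twPoly C u g = twPoly C u h) : g = h := by
  have hd : g.natDegree = h.natDegree := by
    rw [← (twPoly_natDegree C u hg).1, e, (twPoly_natDegree C u hh).1]
  by_cases h0 : g.natDegree = 0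
  · rw [eq_one_of_monic_natDegree_zero hg h0, eq_one_of_monic_natDegree_zero hh (hd ▸ h0)]
  refine Polynomial.ext fun j => ?_
  have hj := congrArg (fun p : F[X] => p.coeff j) e
  rw [coeff_twPoly C u h0 hg, coeff_twPoly C u (hd ▸ h0) hh, ← hd] at hj
  split_ifs at hj with h1 h2
  · rw [h1, coeff_zero_eq_eval_zero, coeff_zero_eq_eval_zero]
    exact mul_left_cancel₀ (u : Fˣ).ne_zero hj
  · rw [h2]
    conv_rhs => rw [hd]
    rw [hg.coeff_natDegree, hh.coeff_natDegree]
  · exact mul_left_cancel₀ (root_ne_zero C u) hj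

/-- The twist of a tuple. -/
noncomputable def twTup {f n : ℕ} (u : Fin f → C.unitOne) (g : STup C f 1 n) : STup C f 1 n :=
  ⟨⟨fun k => ⟨twPoly C (u k) (g.1.1 k).1, (twPoly_natDegree C _ (g.1.1 k).2.1).2, by
      by_cases h : (g.1.1 k).1.natDegree = 0
      · rw [twPoly, if_pos h]; exact (g.1.1 k).2.2
      · rw [twPoly_eval C _ h (g.1.1 k).2.1]
        exact mul_ne_zero ((u k : C.unitOne) : Fˣ).ne_zero (g.1.1 k).2.2⟩, by
    simp only [(twPoly_natDegree C _ (g.1.1 _).2.1).1]; exact g.1.2⟩,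
    fun k => dual_twPoly C _ (g.1.1 k).2.1 (g.1.1 k).2.2 (g.2 k)⟩

theorem tupSupp_twTup {f n : ℕ} (u : Fin f → C.unitOne) (g : STup C f 1 n) :
    tupSupp (twTup C u g).1 = tupSupp g.1 := by
  simp [tupSupp, twTup, (twPoly_natDegree C _ (g.1.1 _).2.1).1]

theorem tupConst_twTup {f n : ℕ} (u : Fin f → C.unitOne) (g : STup C f 1 n)
    (hu : ∀ k, k ∉ tupSupp g.1 → u k = 1) :
    tupConst (twTup C u g).1 = tupConst g.1 * ((∏ k, u k ^ (1 + k.val) : C.unitOne) : Fˣ) := by
  rw [SubmonoidClass.coe_finsetProd]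
  unfold tupConst
  rw [← Finset.prod_mul_distrib]
  refine Finset.prod_congr rfl fun k _ => ?_
  rw [SubmonoidClass.coe_pow, ← mul_pow]
  congr 1
  apply Units.ext
  simp only [twTup, Units.val_mk0, Units.val_mul]
  by_cases h : (g.1.1 k).1.natDegree = 0
  · rw [hu k (by simp [tupSupp, h]), twPoly, if_pos h]
    simp
  · rw [twPoly_eval C _ h (g.1.1 k).2.1, mul_comm]

/-- The common divisor of the indices and `q + 1`. -/
noncomputable def uGcd {f n : ℕ} (g : Tup F f 1 n) : ℕ :=
  Nat.gcd (q + 1) ((tupSupp g).gcd fun k => 1 + k.val)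

theorem uGcd_dvd_card {f n : ℕ} (g : Tup F f 1 n) : uGcd (q := q) g ∣ q + 1 := Nat.gcd_dvd_left _ _

theorem uGcd_pos {f n : ℕ} (g : Tup F f 1 n) : 0 < uGcd (q := q) g := Nat.gcd_pos_of_pos_left _ (Nat.succ_pos q)

theorem uGcd_dvd {f n : ℕ} (g : Tup F f 1 n) : uGcd (q := q) g ∣ n := by
  conv_rhs => rw [← g.2]
  refine Finset.dvd_sum fun k _ => ?_
  by_cases h : (g.1 k).1.natDegree = 0
  · simp [h]
  · exact ((Nat.gcd_dvd_right _ _).trans
      (Finset.gcd_dvd (Finset.mem_filter.2 ⟨Finset.mem_univ k, h⟩))).mul_right _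

include hF in
theorem pow_unitOne (v : C.unitOne) : v ^ (q + 1) = 1 := by
  rw [← C.card_unitOne hF]; exact pow_card_eq_one'

include hF in
theorem exists_uTwist {f : ℕ} (s : Finset (Fin f)) (v : C.unitOne) :
    ∃ u : Fin f → C.unitOne, (∀ k, k ∉ s → u k = 1) ∧
      ∏ k, u k ^ (1 + k.val) = v ^ Nat.gcd (q + 1) (s.gcd fun k => 1 + k.val) := by
  classical
  let H : Subgroup C.unitOne :=
    { carrier := {x | ∃ u : Fin f → C.unitOne, (∀ k, k ∉ s → u k = 1) ∧ ∏ k, u k ^ (1 + k.val) = x}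
      one_mem' := ⟨1, fun _ _ => rfl, by simp⟩
      mul_mem' := by
        rintro a b ⟨u, hu, rfl⟩ ⟨w, hw, rfl⟩
        exact ⟨u * w, fun k hk => by simp [hu k hk, hw k hk],
          by simp [mul_pow, Finset.prod_mul_distrib]⟩
      inv_mem' := by
        rintro a ⟨u, hu, rfl⟩
        exact ⟨u⁻¹, fun k hk => by simp [hu k hk], by simp [inv_pow]⟩ }
  exact pow_gcd_mem H (pow_unitOne C hF) s _ (fun k hk v => ⟨Pi.mulSingle k v,
    fun l hl => Pi.mulSingle_eq_of_ne (fun h => hl (by rwa [h])) _, by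
      rw [Finset.prod_eq_single k (fun l _ hl => by rw [Pi.mulSingle_eq_of_ne hl, one_pow])
        (fun h => absurd (Finset.mem_univ k) h), Pi.mulSingle_eq_same]⟩) v

include hF in
/-- The weighted number of fixed tuples of constant product `a`. -/
theorem card_mul_sum_uGcd_le (f n : ℕ) [Fintype (STup C f 1 n)] (a : Fˣ) :
    (q + 1) * ∑ g ∈ univ.filter (fun g : STup C f 1 n => tupConst g.1 = a), uGcd (q := q) g.1 ≤
      ∑ g : STup C f 1 n, uGcd (q := q) g.1 ^ 2 := by
  classical
  haveI : Fintype C.unitOne := Fintype.ofFinite _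
  let R : STup C f 1 n → Finset C.unitOne := fun g => Finset.univ.image fun v => v ^ uGcd (q := q) g.1
  have hR : ∀ g, uGcd (q := q) g.1 * (R g).card = q + 1 := by
    intro g
    have h1 : (R g).card = Nat.card (powMonoidHom (uGcd (q := q) g.1) : C.unitOne →* C.unitOne).range := by
      rw [← Nat.card_eq_finsetCard]
      exact Nat.card_congr (Equiv.subtypeEquivRight fun x => by simp [R])
    have h2 := Subgroup.card_mul_index (powMonoidHom (uGcd (q := q) g.1) : C.unitOne →* C.unitOne).range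
    rw [IsCyclic.index_powMonoidHom_range, C.card_unitOne hF, Nat.gcd_eq_right (uGcd_dvd_card g.1)] at h2
    rw [h1, mul_comm, h2]
  choose u hu1 hu2 using fun (s : Finset (Fin f)) (v : C.unitOne) => exists_uTwist C hF s v
  let rt : ℕ → C.unitOne → C.unitOne := fun d t => if h : ∃ v : C.unitOne, v ^ d = t then h.choose else 1
  have hrt : ∀ g, ∀ t ∈ R g, rt (uGcd (q := q) g.1) t ^ uGcd (q := q) g.1 = t := by
    intro g t ht
    obtain ⟨v, -, hv⟩ := Finset.mem_image.1 ht
    have h : ∃ w : C.unitOne, w ^ uGcd (q := q) g.1 = t := ⟨v, hv⟩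
    simp only [rt, dif_pos h]
    exact h.choose_spec
  let T : (Σ _ : STup C f 1 n, C.unitOne) → STup C f 1 n := fun x =>
    twTup C (u (tupSupp x.1.1) (rt (uGcd (q := q) x.1.1) x.2)) x.1
  let S := (univ.filter fun g : STup C f 1 n => tupConst g.1 = a).sigma R
  have hgcd : ∀ x, uGcd (q := q) (T x).1 = uGcd (q := q) x.1.1 := fun x => by
    simp only [T, uGcd, tupSupp_twTup]
  have hconst : ∀ x ∈ S, tupConst (T x).1 = a * (x.2 : Fˣ) := by
    intro x hx
    obtain ⟨hx1, hx2⟩ := Finset.mem_sigma.1 hx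
    simp only [T]
    rw [tupConst_twTup C _ _ (hu1 _ _), hu2, (Finset.mem_filter.1 hx1).2]
    exact congrArg (a * ·) (congrArg Subtype.val (hrt _ _ hx2))
  have hinj : Set.InjOn T S := by
    rintro ⟨g, t⟩ hx ⟨g', t'⟩ hy hxy
    have ht : t = t' := Subtype.ext (mul_left_cancel ((hconst _ hx).symm.trans
      ((congrArg (fun z : STup C f 1 n => tupConst z.1) hxy).trans (hconst _ hy))))
    subst ht
    have hs : tupSupp g.1 = tupSupp g'.1 := by
      have h := congrArg (fun z : STup C f 1 n => tupSupp z.1) hxy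
      simpa [T, tupSupp_twTup] using h
    have hd : uGcd (q := q) g.1 = uGcd (q := q) g'.1 := by simp only [uGcd, hs]
    simp only [T, hs, hd] at hxy
    have : g = g' := Subtype.ext (Subtype.ext (funext fun k => Subtype.ext (twPoly_injective C _
      (g.1.1 k).2.1 (g'.1.1 k).2.1 (congrArg (fun z : STup C f 1 n => (z.1.1 k).1) hxy))))
    subst this
    rfl
  calc (q + 1) * ∑ g ∈ univ.filter (fun g : STup C f 1 n => tupConst g.1 = a), uGcd (q := q) g.1
      = ∑ x ∈ S, uGcd (q := q) x.1.1 ^ 2 := by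
        rw [Finset.sum_sigma, Finset.mul_sum]
        refine Finset.sum_congr rfl fun g _ => ?_
        rw [← hR g]
        simp only [Finset.sum_const, smul_eq_mul]
        ring
    _ = ∑ x ∈ S, uGcd (q := q) (T x).1 ^ 2 := Finset.sum_congr rfl fun x _ => by rw [hgcd]
    _ = ∑ g ∈ S.image T, uGcd (q := q) g.1 ^ 2 :=
        (Finset.sum_image (f := fun g : STup C f 1 n => uGcd (q := q) g.1 ^ 2) hinj).symm
    _ ≤ _ := Finset.sum_le_sum_of_subset (Finset.subset_univ _)

/-- fixed tuples all of whose weights are multiples of `d` -/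
theorem card_dvd_uGcd_le {f n d : ℕ} (hd : 0 < d) (hdn : d ∣ n) (hnf : n ≤ f) :
    Nat.card {g : STup C f 1 n // d ∣ uGcd (q := q) g.1} ≤ sCard C (n / d) 1 (n / d) := by
  classical
  obtain ⟨m, rfl⟩ := hdn
  rw [Nat.mul_div_cancel_left m hd]
  haveI : Finite (STup C m 1 m) := finite_sTup C m 0 m
  let ix : Fin m → Fin f := fun i => ⟨d * (i.val + 1) - 1, by
    have : d * (i.val + 1) ≤ d * m := Nat.mul_le_mul_left d i.2
    have : 0 < d * (i.val + 1) := Nat.mul_pos hd (Nat.succ_pos _)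
    omega⟩
  have hix : ∀ i : Fin m, 1 + (ix i).val = d * (i.val + 1) := fun i => by
    have : 0 < d * (i.val + 1) := Nat.mul_pos hd (Nat.succ_pos _)
    simp only [ix]
    omega
  have hinj : Function.Injective ix := fun i j h => Fin.ext (by
    have := hix i
    rw [h, hix j] at this
    have := Nat.eq_of_mul_eq_mul_left hd this
    omega)
  have hout : ∀ g : Tup F f 1 (d * m), d ∣ uGcd (q := q) g → ∀ k, k ∉ Set.range ix →
      (g.1 k).1.natDegree = 0 := by
    intro g hg k hk
    by_contra h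
    have hdk : d ∣ 1 + k.val := hg.trans ((Nat.gcd_dvd_right _ _).trans
      (Finset.gcd_dvd (Finset.mem_filter.2 ⟨Finset.mem_univ k, h⟩)))
    obtain ⟨c, hc⟩ := hdk
    have hle : 1 + k.val ≤ d * m := by
      have h1 := Finset.single_le_sum (f := fun i : Fin f => (1 + i.val) * (g.1 i).1.natDegree)
        (fun _ _ => Nat.zero_le _) (Finset.mem_univ k)
      rw [g.2] at h1
      exact le_trans (Nat.le_mul_of_pos_right _ (Nat.pos_of_ne_zero h)) h1
    have hc0 : 0 < c := Nat.pos_of_mul_pos_left (a := d) (by omega)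
    have hcm : c ≤ m := Nat.le_of_mul_le_mul_left (hc ▸ hle) hd
    exact hk ⟨⟨c - 1, by omega⟩, Fin.ext (by
      have := hix ⟨c - 1, by omega⟩
      simp only [Nat.sub_add_cancel (show 1 ≤ c from hc0)] at this
      omega)⟩
  refine Nat.card_le_card_of_injective
    (fun g => (⟨⟨fun i => g.1.1.1 (ix i), ?_⟩, fun i => g.1.2 (ix i)⟩ : STup C m 1 m)) ?_
  · refine Nat.eq_of_mul_eq_mul_left hd ?_
    conv_rhs => rw [← g.1.1.2]
    rw [Finset.mul_sum]
    refine Fintype.sum_of_injective ix hinj _ _ (fun k hk => by rw [hout _ g.2 k hk, mul_zero])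
      fun i => ?_
    rw [hix, ← mul_assoc, add_comm 1 i.val]
  · rintro ⟨⟨g, hgs⟩, hg⟩ ⟨⟨g', hgs'⟩, hg'⟩ h
    refine Subtype.ext (Subtype.ext (Subtype.ext (funext fun k => ?_)))
    by_cases hk : k ∈ Set.range ix
    · obtain ⟨i, rfl⟩ := hk
      exact congrFun (congrArg (fun z : STup C m 1 m => z.1.1) h) i
    · rw [(g.1 k).eq_one_of_natDegree (hout g hg k hk),
        (g'.1 k).eq_one_of_natDegree (hout g' hg' k hk)]

theorem sum_small (s : Finset ℕ) : ∑ d ∈ s.filter (2 ≤ ·), (1 / 3 : ℚ) * (8 / 27) ^ (d - 2) ≤ 9 / 19 := by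
  have hinj : Set.InjOn (fun d => d - 2) (s.filter (2 ≤ ·) : Finset ℕ) := by
    intro a ha b hb h
    have := (Finset.mem_filter.1 ha).2
    have := (Finset.mem_filter.1 hb).2
    simp only at h
    omega
  rw [← Finset.mul_sum, ← Finset.sum_image (f := fun i => (8 / 27 : ℚ) ^ i) hinj]
  have hsub : (s.filter (2 ≤ ·)).image (fun d => d - 2) ⊆ range (s.sup id + 1) := by
    intro i hi
    obtain ⟨d, hd, rfl⟩ := Finset.mem_image.1 hi
    have := Finset.le_sup (f := id) (Finset.mem_filter.1 hd).1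
    simp only [id] at this
    exact Finset.mem_range.2 (by omega)
  have h1 : ∑ i ∈ range (s.sup id + 1), (8 / 27 : ℚ) ^ i ≤ 27 / 19 := by
    rw [geom_sum_eq (by norm_num)]
    have : (0 : ℚ) ≤ (8 / 27) ^ (s.sup id + 1) := by positivity
    rw [div_le_iff_of_neg (by norm_num)]
    linarith
  have := Finset.sum_le_sum_of_subset_of_nonneg hsub (f := fun i => (8 / 27 : ℚ) ^ i) fun i _ _ => by positivity
  linarith

theorem sq_sub_one_le : ∀ k : ℕ, (((k : ℚ) + 2) ^ 2 - 1) ≤ 3 * (8 / 3) ^ k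
  | 0 => by norm_num
  | k + 1 => by
    have h := sq_sub_one_le k
    have hk : (0 : ℚ) ≤ k := Nat.cast_nonneg k
    push_cast
    rw [pow_succ (8 / 3 : ℚ)]
    nlinarith

theorem big_term_le {x : ℚ} (hx0 : 0 ≤ x) (hx : x ≤ 1 / 3) : ∀ k : ℕ, (((k : ℚ) + 2) ^ 2 - 1) * x ^ (k + 1) ≤ 1
  | 0 => by norm_num; linarith
  | k + 1 => by
    have h := big_term_le hx0 hx k
    have hp : (0 : ℚ) ≤ x ^ (k + 1) := pow_nonneg hx0 _
    have hk : (0 : ℚ) ≤ k := Nat.cast_nonneg k
    have e : ((((k + 1 : ℕ) : ℚ) + 2) ^ 2 - 1) * x ≤ ((k : ℚ) + 2) ^ 2 - 1 := by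
      push_cast
      nlinarith
    calc ((((k + 1 : ℕ) : ℚ) + 2) ^ 2 - 1) * x ^ (k + 1 + 1)
        = ((((k + 1 : ℕ) : ℚ) + 2) ^ 2 - 1) * x * x ^ (k + 1) := by ring
      _ ≤ (((k : ℚ) + 2) ^ 2 - 1) * x ^ (k + 1) := mul_le_mul_of_nonneg_right e hp
      _ ≤ 1 := h

include hF in
/-- The weighted number of fixed tuples of given constant product is `O(q ^ (n - 1))`. -/
theorem hundred_mul_sum_uGcd_le (n : ℕ) (hn : 1 ≤ n) [Fintype (STup C n 1 n)] (a : Fˣ) :
    100 * ∑ g ∈ univ.filter (fun g : STup C n 1 n => tupConst g.1 = a), uGcd (q := q) g.1 ≤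
      826 * q ^ (n - 1) := by
  classical
  set T := ∑ g ∈ univ.filter (fun g : STup C n 1 n => tupConst g.1 = a), uGcd (q := q) g.1 with hT
  set D := (n.divisors.filter (· ∣ q + 1)).filter (2 ≤ ·) with hD
  have key : (q + 1) * T ≤ sCard C n 1 n + ∑ d ∈ D, (d ^ 2 - 1) * sCard C (n / d) 1 (n / d) := by
    refine (card_mul_sum_uGcd_le C hF n n a).trans ?_
    have hsq : ∀ g : STup C n 1 n, uGcd (q := q) g.1 ^ 2 ≤
        1 + ∑ d ∈ D, if d ∣ uGcd (q := q) g.1 then d ^ 2 - 1 else 0 := by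
      intro g
      have hp := uGcd_pos (q := q) g.1
      rcases eq_or_ne (uGcd (q := q) g.1) 1 with h1 | h1
      · rw [h1]; simp
      · have hmem : uGcd (q := q) g.1 ∈ D :=
          Finset.mem_filter.2 ⟨Finset.mem_filter.2 ⟨Nat.mem_divisors.2 ⟨uGcd_dvd g.1, by omega⟩,
            uGcd_dvd_card g.1⟩, by omega⟩
        have h2 := Finset.single_le_sum
          (f := fun d => if d ∣ uGcd (q := q) g.1 then d ^ 2 - 1 else 0) (fun _ _ => Nat.zero_le _) hmem
        simp only [dvd_refl, if_true] at h2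
        have : 1 ≤ uGcd (q := q) g.1 ^ 2 := Nat.one_le_pow _ _ hp
        omega
    refine (Finset.sum_le_sum fun g _ => hsq g).trans ?_
    rw [Finset.sum_add_distrib, Finset.sum_comm]
    refine Nat.add_le_add (le_of_eq ?_) (Finset.sum_le_sum fun d hd => ?_)
    · rw [Finset.sum_const, smul_eq_mul, mul_one, Finset.card_univ, sCard, Nat.card_eq_fintype_card]
    · have hdn := (Nat.mem_divisors.1 (Finset.mem_filter.1 (Finset.mem_filter.1 hd).1).1).1
      have hd0 : 0 < d := by have := (Finset.mem_filter.1 hd).2; omega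
      rw [← Finset.sum_filter, Finset.sum_const, smul_eq_mul, mul_comm]
      refine Nat.mul_le_mul_left _ ?_
      rw [← Fintype.card_subtype, ← Nat.card_eq_fintype_card]
      exact card_dvd_uGcd_le C hd0 hdn le_rfl
  have hq2 : 2 ≤ q := two_le_q hF
  have hqR : (2 : ℚ) ≤ q := by exact_mod_cast hq2
  set x : ℚ := 1 / q with hx
  have hx0 : 0 < x := by positivity
  clear_value T
  have keyQ : (1 + x) * ((T : ℚ) / (q : ℚ) ^ (n - 1)) ≤
      sDens C n 1 n + ∑ d ∈ D, ((d : ℚ) ^ 2 - 1) * x ^ (n - n / d) * sDens C (n / d) 1 (n / d) := by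
    have h := (Nat.cast_le (α := ℚ)).2 key
    rw [Nat.cast_mul, Nat.cast_add, Nat.cast_add, Nat.cast_one, Nat.cast_sum] at h
    have e1 : (1 + x) * ((T : ℚ) / (q : ℚ) ^ (n - 1)) = (((q : ℚ) + 1) * T) / (q : ℚ) ^ n := by
      obtain ⟨m, rfl⟩ : ∃ m, n = m + 1 := ⟨n - 1, by omega⟩
      rw [hx, Nat.add_sub_cancel, pow_succ]
      field_simp
    rw [e1]
    refine (div_le_div_of_nonneg_right h (show (0 : ℚ) ≤ (q : ℚ) ^ n by positivity)).trans (le_of_eq ?_)
    rw [add_div, Finset.sum_div]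
    refine congrArg₂ (· + ·) rfl (Finset.sum_congr rfl fun d hd => ?_)
    have hd1 : 1 ≤ d ^ 2 := Nat.one_le_pow _ _ (by have := (Finset.mem_filter.1 hd).2; omega)
    rw [Nat.cast_mul, Nat.cast_sub hd1, sDens, hx, div_pow, one_pow]
    push_cast
    conv_lhs => rw [show n = (n - n / d) + n / d from (Nat.sub_add_cancel (Nat.div_le_self n d)).symm, pow_add]
    rw [show n - n / d + n / d = n from Nat.sub_add_cancel (Nat.div_le_self n d)]
    field_simp
  have hgoal : (T : ℚ) / (q : ℚ) ^ (n - 1) ≤ 826 / 100 := by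
    obtain ⟨f, rfl⟩ : ∃ f, n = f + 1 := ⟨n - 1, by omega⟩
    rcases lt_or_eq_of_le hq2 with h3 | h2
    · have hx3 : x ≤ 1 / 3 := one_div_le_one_div_of_le (by norm_num) (by exact_mod_cast h3)
      have hsum : ∑ d ∈ D, ((d : ℚ) ^ 2 - 1) * x ^ (f + 1 - (f + 1) / d) * sDens C ((f + 1) / d) 1 ((f + 1) / d) ≤
          ∑ d ∈ D, ((if d = f + 1 then 4 / 3 else 0) + 10 / 3 * ((1 / 3) * (8 / 27) ^ (d - 2))) := by
        refine Finset.sum_le_sum fun d hd => ?_
        obtain ⟨hd', hd2⟩ := Finset.mem_filter.1 hd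
        obtain ⟨m, hm⟩ := (Nat.mem_divisors.1 (Finset.mem_filter.1 hd').1).1
        obtain ⟨k, rfl⟩ : ∃ k, d = k + 2 := ⟨d - 2, by omega⟩
        have hm0 : 0 < m := Nat.pos_of_ne_zero fun h => by simp [h] at hm
        rw [hm, Nat.mul_div_cancel_left m (by omega), show (k + 2) * m - m = (k + 1) * m by
          rw [show (k + 2) * m = (k + 1) * m + m by ring]; omega, Nat.add_sub_cancel]
        have hk : (0 : ℚ) ≤ k := Nat.cast_nonneg k
        have hpos : (0 : ℚ) ≤ 10 / 3 * ((1 / 3) * (8 / 27) ^ k) := by positivity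
        push_cast
        rcases Nat.lt_or_ge m 2 with hm1 | hm1
        · obtain rfl : m = 1 := by omega
          rw [if_pos (by omega), mul_one]
          have h1 : sDens C (0 + 1) 1 1 ≤ 4 / 3 := (sDens_le_of_eq_one C hF 0).trans (by rw [← hx]; linarith)
          have h2 := mul_le_mul (big_term_le hx0.le hx3 k) h1 (sDens_nonneg C _ _ _) zero_le_one
          simp only [Nat.zero_add] at h2
          linarith
        · rw [if_neg (fun he => by
            have : (k + 2) * 2 ≤ (k + 2) * m := Nat.mul_le_mul_left _ hm1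
            omega), zero_add]
          obtain ⟨m', rfl⟩ : ∃ m', m = m' + 1 := ⟨m - 1, by omega⟩
          have h1 : ((k : ℚ) + 2) ^ 2 - 1 ≤ 3 * (8 / 3) ^ k := sq_sub_one_le k
          have h2 : x ^ ((k + 1) * (m' + 1)) ≤ (1 / 9) ^ (k + 1) := by
            calc x ^ ((k + 1) * (m' + 1)) ≤ x ^ ((k + 1) * 2) :=
                  pow_le_pow_of_le_one hx0.le (by linarith) (Nat.mul_le_mul_left _ hm1)
              _ ≤ (1 / 3) ^ ((k + 1) * 2) := pow_le_pow_left₀ hx0.le hx3 _
              _ = _ := by rw [mul_comm, pow_mul]; norm_num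
          have h3 : sDens C (m' + 1) 1 (m' + 1) ≤ 10 / 3 := sDens_le_three C hF (by omega) m' (m' + 1)
          refine (mul_le_mul (mul_le_mul h1 h2 (by positivity) (by positivity)) h3
            (sDens_nonneg C _ _ _) (by positivity)).trans (le_of_eq ?_)
          rw [show (8 / 27 : ℚ) = (8 / 3) * (1 / 9) by norm_num, mul_pow, pow_succ (1 / 9 : ℚ)]
          ring
      rw [Finset.sum_add_distrib, ← Finset.mul_sum, Finset.sum_ite_eq'] at hsum
      have h4 := sum_small ((f + 1).divisors.filter (· ∣ q + 1))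
      have h5 : sDens C (f + 1) 1 (f + 1) ≤ 10 / 3 := sDens_le_three C hF (by omega) f (f + 1)
      have h6 : (if f + 1 ∈ D then (4 / 3 : ℚ) else 0) ≤ 4 / 3 := by split_ifs <;> norm_num
      have hT0 : (0 : ℚ) ≤ (T : ℚ) / (q : ℚ) ^ (f + 1 - 1) := by positivity
      nlinarith [keyQ]
    · have hq' : q = 2 := h2.symm
      have hx' : x = 1 / 2 := by rw [hx, hq']; norm_num
      have h5 : sDens C (f + 1) 1 (f + 1) ≤ 8291 / 1000 := sDens_le_two C hF hq' f (f + 1)
      have hDsub : D ⊆ {3} := fun d hd => by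
        obtain ⟨hd', hd2⟩ := Finset.mem_filter.1 hd
        have h3 : d ∣ 3 := by have := (Finset.mem_filter.1 hd').2; rwa [hq'] at this
        rcases (Nat.dvd_prime (by norm_num)).1 h3 with h | h <;> simp [h] at hd2 ⊢
      have hext : ∑ d ∈ D, ((d : ℚ) ^ 2 - 1) * x ^ (f + 1 - (f + 1) / d) * sDens C ((f + 1) / d) 1 ((f + 1) / d) ≤ 3 := by
        rcases D.eq_empty_or_nonempty with h | ⟨d, hd⟩
        · rw [h]; norm_num
        have hd3 : d = 3 := Finset.mem_singleton.1 (hDsub hd)
        subst hd3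
        rw [show D = {3} from le_antisymm hDsub (Finset.singleton_subset_iff.2 hd), Finset.sum_singleton]
        obtain ⟨m, hm⟩ := (Nat.mem_divisors.1 (Finset.mem_filter.1 (Finset.mem_filter.1 hd).1).1).1
        obtain ⟨m', rfl⟩ : ∃ m', m = m' + 1 := ⟨m - 1, by
          rcases m with - | m
          · omega
          · omega⟩
        rw [hm, Nat.mul_div_cancel_left _ (by norm_num : 0 < 3), hx',
          show 3 * (m' + 1) - (m' + 1) = 2 * m' + 2 by omega, pow_add, pow_mul]
        norm_num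
        rcases lt_trichotomy m' 1 with h | rfl | h
        · obtain rfl : m' = 0 := by omega
          have := sDens_le_of_eq_one C hF 0
          rw [← hx, hx'] at this
          norm_num at this ⊢
          linarith
        · have := sDens_le_of_le_two C hF 1 le_rfl
          rw [← hx, hx'] at this
          norm_num [geo] at this ⊢
          linarith
        · have := sDens_le_two C hF hq' m' (m' + 1)
          have hp : ((1 : ℚ) / 4) ^ m' ≤ (1 / 4) ^ 2 := pow_le_pow_of_le_one (by norm_num) (by norm_num) h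
          have := mul_le_mul hp this (sDens_nonneg C _ _ _) (by norm_num)
          norm_num at this ⊢
          linarith
      rw [hx'] at keyQ hext
      linarith
  rw [div_le_iff₀ (by positivity)] at hgoal
  have : ((100 * T : ℕ) : ℚ) ≤ ((826 * q ^ (n - 1) : ℕ) : ℚ) := by push_cast; linarith
  exact_mod_cast this

end CfsgLib.Char.SUClass
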