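import Mathlib
import Cfsg.Agent.Lib.Descent.SplitCount
import Cfsg.Agent.Lib.IsometryConj.SUCharpoly
import Cfsg.Agent.Lib.Char.SUClass.Weight
import Cfsg.Agent.Lib.Char.SUClass.Blocks

/-!
# The class number of the special unitary group

The classes of `SU_n(q)` are counted through the tuples of their elements in `GU_n(q)`, weighted by the
splitting of a class of `GU_n(q)`; the semisimple classes alone give the lower bound `q^(n-1)`.
-/

set_option autoImplicit false

open scoped Classical

namespace CfsgLib.Char.SUClass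

open Polynomial CfsgLib.SU CfsgLib.GLClass

/-- Counting the classes of the kernel of a homomorphism to an abelian group through an invariant that
decides conjugacy in the whole group. -/
theorem card_classes_le_sum {G K A T : Type*} [Group G] [Group K] [CommGroup A] [Finite G] [Finite K]
    (f : K →* G) (hf : Function.Injective f) (D : G →* A) (hD : Function.Surjective D) (hK : f.range = D.ker)
    (Φ : K → T) (hΦ : ∀ x y, Φ x = Φ y → IsConj (f x) (f y)) (s : Finset T) (hs : ∀ x, Φ x ∈ s)
    (w : T → ℕ) (hw : ∀ x, ((Subgroup.centralizer {f x}).map D).index ≤ w (Φ x)) :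
    Nat.card (ConjClasses K) ≤ ∑ t ∈ s, w t := by
  haveI : Fintype (ConjClasses K) := Fintype.ofFinite _
  choose rep hrep using (ConjClasses.mk_surjective : Function.Surjective (ConjClasses.mk (α := K)))
  have key : ∀ t ∈ s, (Finset.univ.filter fun C => Φ (rep C) = t).card ≤ w t := by
    intro t _
    rcases (Finset.univ.filter fun C => Φ (rep C) = t).eq_empty_or_nonempty with h | ⟨C₀, hC₀⟩
    · rw [h, Finset.card_empty]; exact Nat.zero_le _
    have ht := (Finset.mem_filter.1 hC₀).2
    rw [← ht]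
    refine le_trans ?_ (hw (rep C₀))
    have hsplit := CfsgLib.Descent.splitClassCount_eq_index_of_hom (MonoidHom.id G) D hD (f (rep C₀)) rfl
      (K := f.range) (by rw [Subgroup.map_id, hK])
    rw [Subgroup.comap_id] at hsplit
    rw [← hsplit, ← Fintype.card_subtype, ← Nat.card_eq_fintype_card]
    have hmem : ∀ C : {C // C ∈ Finset.univ.filter fun C => Φ (rep C) = Φ (rep C₀)},
        Cfsg.IsConjUnder (MonoidHom.id G).range (f (rep C₀)) (f (rep C.1)) := fun C => by
      obtain ⟨c, hc⟩ := isConj_iff.1 (hΦ _ _ (Finset.mem_filter.1 C.2).2.symm)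
      exact ⟨c, ⟨c, rfl⟩, hc.symm⟩
    unfold Cfsg.splitClassCount
    refine Nat.card_le_card_of_injective
      (fun C => Quot.mk _ ⟨f (rep C.1), hmem ⟨C.1, Finset.mem_filter.2 ⟨Finset.mem_univ _, C.2⟩⟩⟩) ?_
    intro C D' hCD
    have hr : Equivalence (fun y z : {y : G // Cfsg.IsConjUnder (MonoidHom.id G).range (f (rep C₀)) y} =>
        Cfsg.IsConjUnder f.range y.1 z.1) := by
      refine ⟨fun y => ⟨1, one_mem _, by group⟩, ?_, ?_⟩
      · rintro y z ⟨c, hc, he⟩
        exact ⟨c⁻¹, inv_mem hc, by rw [he]; group⟩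
      · rintro y z z' ⟨c, hc, he⟩ ⟨d, hd, he'⟩
        exact ⟨d * c, mul_mem hd hc, by rw [he', he]; group⟩
    obtain ⟨_, ⟨c, rfl⟩, hc⟩ := (hr.quot_mk_eq_iff _ _).1 hCD
    refine Subtype.ext ?_
    rw [← hrep C.1, ← hrep D'.1]
    refine ConjClasses.mk_eq_mk_iff_isConj.2 (isConj_iff.2 ⟨c, hf ?_⟩)
    rw [map_mul, map_mul, map_inv]
    exact hc.symm
  rw [Nat.card_eq_fintype_card, ← Finset.card_univ,
    Finset.card_eq_sum_card_fiberwise (f := fun C => Φ (rep C)) (t := s) fun C _ => hs _]
  exact Finset.sum_le_sum key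

variable {F : Type*} [Field F] [Fintype F] {q n : ℕ} (C : UCtx F q)

/-- `SU` inside `GU`. -/
def suToGU : ↥(Cfsg.SU n F q) →* ↥(Cfsg.GU n F q) :=
  (Matrix.SpecialLinearGroup.toGL.comp (Cfsg.SU n F q).subtype).codRestrict _ fun A => A.2

theorem suToGU_injective : Function.Injective (suToGU (F := F) (q := q) (n := n)) := fun _ _ h =>
  Subtype.ext (Matrix.SpecialLinearGroup.toGL_injective (congrArg Subtype.val h))

theorem suToGU_range : (suToGU (F := F) (q := q) (n := n)).range = (C.detHom (n := n)).ker := by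
  ext g
  constructor
  · rintro ⟨A, rfl⟩
    exact Subtype.ext (Units.ext A.1.2)
  · intro hg
    exact ⟨⟨⟨g.1.1, congrArg (fun u : C.unitOne => ((u : Fˣ) : F)) hg⟩, g.2⟩, Subtype.ext (Units.ext rfl)⟩

/-- The splitting in the special unitary group is bounded by the tuple. -/
theorem index_le_uGcd (hF : Fintype.card F = q ^ 2) (x : ↥(Cfsg.GU n F q)) :
    ((Subgroup.centralizer {x}).map (C.detHom (n := n))).index ≤
      uGcd (q := q) (classTup (x : GL (Fin n) F)) := by
  set g := classTup (x : GL (Fin n) F) with hg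
  set H := (Subgroup.centralizer {x}).map (C.detHom (n := n))
  have hle : (powMonoidHom (uGcd (q := q) g) : C.unitOne →* C.unitOne).range ≤ H := by
    rintro _ ⟨v, rfl⟩
    refine pow_gcd_mem H (pow_unitOne C hF) (tupSupp g) _ (fun k hk v => ?_) v
    obtain ⟨i, hi⟩ : ∃ i, classIdx (x : GL (Fin n) F) i = k := by
      by_contra hne
      push Not at hne
      exact (Finset.mem_filter.1 hk).2 (by simp [hg, classTup, hne])
    obtain ⟨V, hV, hd⟩ := exists_det_centralizer C hF x (classDecomp _) i (eval_P_ne_zero _ i) v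
    refine ⟨V, Subgroup.mem_centralizer_singleton_iff.2 hV.eq, ?_⟩
    rw [hd, ← hi, one_add_classIdx]
  have h := Subgroup.index_antitone hle
  rwa [IsCyclic.index_powMonoidHom_range, C.card_unitOne hF, Nat.gcd_eq_right (uGcd_dvd_card g)] at h

theorem card_su_classes_le (hF : Fintype.card F = q ^ 2) (hn : 1 ≤ n) :
    100 * Nat.card (ConjClasses ↥(Cfsg.SU n F q)) ≤ 826 * q ^ (n - 1) := by
  obtain ⟨C⟩ := CfsgLib.Classical.uctx_exists hF
  haveI : Finite (STup C n 1 n) := finite_sTup C n 0 n
  haveI : Fintype (STup C n 1 n) := Fintype.ofFinite _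
  refine le_trans (Nat.mul_le_mul_left _ ?_) (hundred_mul_sum_uGcd_le C hF n hn ((-1) ^ n))
  refine card_classes_le_sum suToGU suToGU_injective C.detHom (C.detHom_surjective hn) (suToGU_range C)
    (fun x => ⟨classTup (suToGU x : GL (Fin n) F), dual_classTup C (suToGU x).2⟩) ?_ _ ?_ _ ?_
  · intro x y h
    exact (IsometryConj.gu_isConj_iff hF _ _).2 (isConj_of_classTup_eq (congrArg Subtype.val h))
  · intro x
    refine Finset.mem_filter.2 ⟨Finset.mem_univ _, ?_⟩
    have h := det_eq_classTup (suToGU x : GL (Fin n) F)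
    have hd : Matrix.GeneralLinearGroup.det (suToGU x : GL (Fin n) F) = 1 := Units.ext x.1.2
    rw [hd] at h
    calc tupConst (classTup (suToGU x : GL (Fin n) F))
        = (-1) ^ n * ((-1) ^ n * tupConst (classTup (suToGU x : GL (Fin n) F))) := by
          rw [← mul_assoc, ← mul_pow, neg_mul_neg, one_mul, one_pow, one_mul]
      _ = (-1) ^ n := by rw [← h, mul_one]
  · intro x
    exact index_le_uGcd C hF (suToGU x)

theorem le_card_su_classes (hF : Fintype.card F = q ^ 2) (hn : 1 ≤ n) :
    q ^ (n - 1) ≤ Nat.card (ConjClasses ↥(Cfsg.SU n F q)) := by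
  obtain ⟨p, hp⟩ := CharP.exists F
  haveI : Fact p.Prime := ⟨CharP.char_is_prime F p⟩
  rw [← IsometryConj.card_su_semisimple_classes (n := n) hF p hn]
  exact Nat.card_le_card_of_injective Subtype.val Subtype.val_injective

end CfsgLib.Char.SUClass
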